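import Cfsg.Agent.SolvStruct.PPrimeNilpotent.Transfer
import Mathlib.GroupTheory.FixedPointFree

/-!
Counting the pairs of noncommuting involutions gives a contradiction.
-/

set_option autoImplicit false
set_option linter.style.haveILetI false
set_option linter.unusedSectionVars false

namespace Cfsg.Lib.PPrimeNil

open Subgroup

universe u

variable {p : ℕ} {G : Type u} [Group G] [Finite G]

theorem mem_normalizer_of_forall' {H : Subgroup G} {g : G} (h : ∀ a ∈ H, g * a * g⁻¹ ∈ H) :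
    g ∈ normalizer (H : Set G) := by
  refine mem_normalizer_iff.2 fun a => ⟨h a, fun ha => ?_⟩
  haveI := Fintype.ofFinite H
  let f : H → H := fun a => ⟨g * a * g⁻¹, h a a.2⟩
  obtain ⟨b, hb⟩ := Finite.surjective_of_injective (f := f)
    (fun a b e => Subtype.ext (by simpa [f] using congrArg Subtype.val e)) ⟨_, ha⟩
  have : (b : G) = a := by simpa [f] using congrArg Subtype.val hb
  rw [← this]; exact b.2

namespace Emb

variable {S : Sylow 2 G} {A M : Subgroup G}

theorem centralizer_inv (E : Emb p G S A M) {t : G} (ht : t ∈ A) (ht1 : t ≠ 1) :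
    centralizer ({t} : Set G) = centralizer (A : Set G) := by
  haveI : Fact (Nat.Prime 2) := ⟨Nat.prime_two⟩
  refine le_antisymm (fun x hx => ?_) (centralizer_le (Set.singleton_subset_iff.2 ht))
  have h1 : x ∈ M := Cfsg.Lib.StrongEmb.centralizer_le E.se (orderOf_eq_prime (E.frame.sq t ht) ht1)
    (E.sylow_le (E.frame.le ht)) hx
  rw [E.eq_normalizer] at h1
  exact E.mem_centralizer_of_fix h1 ht ht1 (mul_inv_eq_iff_eq_mul.2 (mem_centralizer_iff.1 hx t rfl).symm)

theorem invol_of_mem (E : Emb p G S A M) {t : G} (ht : orderOf t = 2) (htM : t ∈ M) : t ∈ A := by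
  haveI : Fact (Nat.Prime 2) := ⟨Nat.prime_two⟩
  obtain ⟨R, hR⟩ := (IsPGroup.of_card (n := 1) (G := zpowers (⟨t, htM⟩ : M))
    (by rw [Nat.card_zpowers, Subgroup.orderOf_mk, ht, pow_one])).exists_le_sylow
  obtain ⟨m, hm⟩ := MulAction.exists_smul_eq M R (S.subtype E.sylow_le)
  have h6 : m * ⟨t, htM⟩ * m⁻¹ ∈ ((m • R : Sylow 2 M) : Subgroup M) :=
    Subgroup.smul_mem_pointwise_smul (a := MulAut.conj m) _ _ (hR (mem_zpowers _))
  rw [hm] at h6
  have h2 : orderOf (m.1 * t * m.1⁻¹) = 2 := by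
    rw [show m.1 * t * m.1⁻¹ = MulAut.conj m.1 t from rfl, MulEquiv.orderOf_eq, ht]
  have h7 := E.invol_mem (v := m.1 * t * m.1⁻¹) h6 h2
  have hmN : m.1 ∈ normalizer (A : Set G) := E.eq_normalizer ▸ m.2
  exact (mem_normalizer_iff.1 hmN t).2 h7

/-- every involution is conjugate into `A` -/
theorem exists_conj_mem_A (E : Emb p G S A M) {s : G} (hs : orderOf s = 2) :
    ∃ g : G, g * s * g⁻¹ ∈ A ∧ g * s * g⁻¹ ≠ 1 := by
  obtain ⟨g, hg⟩ := Cfsg.Lib.StrongEmb.exists_conj_mem E.se hs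
  have h2 : orderOf (g * s * g⁻¹) = 2 := by
    rw [show g * s * g⁻¹ = MulAut.conj g s from rfl, MulEquiv.orderOf_eq, hs]
  exact ⟨g, E.invol_of_mem h2 hg, fun e => by simp [e] at h2⟩

/-- commuting involutions and centralizers -/
theorem centralizer_data (E : Emb p G S A M) {s : G} (hs : orderOf s = 2) {h x : G} (hh : s * h = h * s)
    (hh1 : h ≠ 1) (hx : x ∈ centralizer ({h} : Set G)) (hinv : s * x * s⁻¹ = x⁻¹) : x * x = 1 := by
  haveI : Fact (Nat.Prime 2) := ⟨Nat.prime_two⟩
  have F := E.frame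
  obtain ⟨g, hgA, hg1⟩ := E.exists_conj_mem_A hs
  set h' := g * h * g⁻¹ with hh'
  set x' := g * x * g⁻¹ with hx'
  set s' := g * s * g⁻¹ with hs'
  have hh'A : h' ∈ centralizer (A : Set G) := by
    rw [← E.centralizer_inv hgA hg1]
    refine mem_centralizer_iff.2 ?_
    intro y hy
    rw [show y = s' from hy, hh', hs', show g * s * g⁻¹ * (g * h * g⁻¹) = g * (s * h) * g⁻¹ by group, hh]
    group
  have hh'1 : h' ≠ 1 := fun e => hh1 (by
    calc h = g⁻¹ * h' * g := by rw [hh']; group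
      _ = 1 := by rw [e]; group)
  -- `C(h')` is contained in `M`
  set K := centralizer ({h'} : Set G)
  have hKtop : K ≠ ⊤ := F.base.centralizer_ne_top hh'1
  have hKM : K ≤ M := by
    haveI := F.base.proper K hKtop
    have hAK : A ≤ K := fun a ha => mem_centralizer_iff.2 fun y hy => by
      rw [show y = h' from hy]
      exact (mem_centralizer_iff.1 hh'A a ha).symm
    obtain ⟨T, hT⟩ := (F.isPGroup.comap_subtype (K := K)).exists_le_sylow
    obtain ⟨P, hP⟩ := (T.2.map K.subtype).exists_le_sylow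
    obtain ⟨c, hc⟩ := MulAction.exists_smul_eq G S P
    -- `c` normalizes `A`
    have hcA : ∀ a ∈ A, c⁻¹ * a * c ∈ A := fun a ha => by
      have h1 : a ∈ ((c • S : Sylow 2 G) : Subgroup G) := by
        rw [hc]; exact hP ⟨⟨a, hAK ha⟩, hT ha, rfl⟩
      rw [Sylow.coe_subgroup_smul, Subgroup.mem_pointwise_smul_iff_inv_smul_mem] at h1
      have h2 := F.closed.2 a ha c⁻¹ (by simpa [mul_assoc] using h1)
      rwa [inv_inv] at h2
    have hcl : Cfsg.IsStronglyClosed (A.subgroupOf K) (T : Subgroup K) := by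
      refine ⟨fun a ha => hT ha, fun a ha k hk => ?_⟩
      show k.1 * a.1 * k.1⁻¹ ∈ A
      have h1 : c⁻¹ * (k.1 * a.1 * k.1⁻¹) * c ∈ (S : Subgroup G) := by
        have h := hP ⟨_, hk, rfl⟩
        rw [← hc, Sylow.coe_subgroup_smul, Subgroup.mem_pointwise_smul_iff_inv_smul_mem] at h
        simpa [mul_assoc] using h
      have h2 := F.closed_conj ha h1
      have hcN : c⁻¹ ∈ normalizer (A : Set G) :=
        (mem_normalizer_of_forall' (H := A) (g := c⁻¹) fun a ha => by
          rw [inv_inv]; exact hcA a ha)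
      have h3 := (mem_normalizer_iff.1 hcN (k.1 * a.1 * k.1⁻¹)).2 (by rwa [inv_inv])
      exact h3
    have hfr := closed_frattini T (A.subgroupOf K) (fun a ha => hT ha)
      (fun a ha b hb => Subtype.ext (F.comm _ ha _ hb)) hcl
    intro k hk
    haveI : (Cfsg.pPrimeCore 2 K).Normal := Cfsg.Lib.Components.pPrimeCore_normal' 2
    obtain ⟨o, ho, n, hn, he⟩ := mem_sup_of_normal_left.1 (hfr.ge (mem_top (⟨k, hk⟩ : K)))
    rw [show k = (o : G) * n from (congrArg Subtype.val he).symm]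
    refine mul_mem ?_ (E.norm_le ?_)
    · set O := (Cfsg.pPrimeCore 2 K).map K.subtype
      haveI : IsMulCommutative A := ⟨⟨fun a b => Subtype.ext (F.comm _ a.2 _ b.2)⟩⟩
      have hA : ¬ IsCyclic A := by
        intro hc'
        obtain ⟨a, ha⟩ := hc'.exists_generator
        have h1 : orderOf a = Nat.card A := orderOf_eq_card_of_forall_mem_zpowers ha
        have h3 := Nat.le_of_dvd (by norm_num) (orderOf_dvd_of_pow_eq_one (Subtype.ext (F.sq a.1 a.2)) : orderOf a ∣ 2)
        have := F.card_ge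
        omega
      have hAO : A ≤ normalizer (O : Set G) := hAK.trans fun k hk =>
        le_normalizer_map K.subtype ⟨⟨k, hk⟩, by rw [normalizer_eq_top]; exact mem_top _, rfl⟩
      have hcop : (Nat.card A).Coprime (Nat.card O) := by
        obtain ⟨i, hi⟩ := IsPGroup.iff_card.1 F.isPGroup
        rw [hi, card_map_of_injective K.subtype_injective]
        exact Nat.Coprime.pow_left i (Cfsg.Lib.Components.coprime_card_pPrimeCore 2).symm
      have hle : O ≤ M := by
        rw [← Cfsg.Lib.Coprime.centralizerJoin_eq hA hAO hcop]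
        refine iSup₂_le fun a ha => inf_le_right.trans ?_
        exact Cfsg.Lib.StrongEmb.centralizer_le E.se (orderOf_eq_prime (F.sq a ha.1) ha.2)
          (E.sylow_le (F.le ha.1))
      exact hle ⟨o, ho, rfl⟩
    · have h := le_normalizer_map K.subtype ⟨n, hn, rfl⟩
      rwa [map_subgroupOf_eq_of_le hAK] at h
  have hx'K : x' ∈ K := mem_centralizer_iff.2 fun y hy => by
    rw [show y = h' from hy, hh', hx', show g * h * g⁻¹ * (g * x * g⁻¹) = g * (h * x) * g⁻¹ by group,
      mem_centralizer_iff.1 hx h rfl]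
    group
  have hx'M := hKM hx'K
  rw [E.eq_normalizer] at hx'M
  have hs'N : s' ∈ normalizer (A : Set G) := le_normalizer hgA
  have hinv' : s' * x' * s'⁻¹ = x'⁻¹ := by
    rw [hs', hx', show g * s * g⁻¹ * (g * x * g⁻¹) * (g * s * g⁻¹)⁻¹ = g * (s * x * s⁻¹) * g⁻¹ by group, hinv]
    group
  -- the automizer has odd order
  have h1 : auto A ⟨x', hx'M⟩ ^ 2 = 1 := by
    have h := congrArg (auto A) (show (⟨s', hs'N⟩ : normalizer (A : Set G)) * ⟨x', hx'M⟩ * ⟨s', hs'N⟩⁻¹ = ⟨x', hx'M⟩⁻¹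
      from Subtype.ext hinv')
    have hs0 : auto A ⟨s', hs'N⟩ = 1 := auto_ker.2 (mem_centralizer_iff.2 fun a ha => F.comm _ ha _ hgA)
    rw [map_mul, map_mul, map_inv, map_inv, hs0, inv_one, one_mul, mul_one] at h
    rw [pow_two]
    exact mul_eq_one_iff_eq_inv.2 h
  have h2 : auto A ⟨x', hx'M⟩ ^ p = 1 := by
    have h := pow_card_eq_one' (x := (⟨auto A ⟨x', hx'M⟩, ⟨_, rfl⟩⟩ : (auto A).range))
    rw [E.automizer.2] at h
    exact congrArg Subtype.val h
  have h3 : x' ∈ centralizer (A : Set G) := by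
    rw [← auto_ker (x := ⟨x', hx'M⟩), ← orderOf_eq_one_iff]
    exact Nat.eq_one_of_dvd_coprimes ((Nat.coprime_primes Nat.prime_two F.base.prime).2 (by
      have := F.base.three; omega)) (orderOf_dvd_of_pow_eq_one h1) (orderOf_dvd_of_pow_eq_one h2)
  have h4 : s' * x' * s'⁻¹ = x' := by
    rw [← E.centralizer_inv hgA hg1] at h3
    exact mul_inv_eq_iff_eq_mul.2 (mem_centralizer_iff.1 h3 s' rfl)
  rw [h4] at hinv'
  calc x * x = g⁻¹ * (x' * x') * g := by rw [hx']; group
    _ = g⁻¹ * (x' * x'⁻¹) * g := by rw [← hinv']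
    _ = 1 := by group

/-- strongly real elements -/
def Real (x : G) : Prop := x * x ≠ 1 ∧ ∃ s : G, orderOf s = 2 ∧ s * x * s⁻¹ = x⁻¹

theorem real_centralizer (E : Emb p G S A M) {x s : G} (hx : x * x ≠ 1) (hs : orderOf s = 2)
    (hinv : s * x * s⁻¹ = x⁻¹) :
    (∀ h ∈ centralizer ({x} : Set G), s * h * s⁻¹ = h⁻¹) ∧ IsPGroup p (centralizer ({x} : Set G)) := by
  haveI : Fact p.Prime := ⟨E.frame.base.prime⟩
  set C := centralizer ({x} : Set G) with hC
  have hss : s * s = 1 := by rw [← pow_two, ← hs]; exact pow_orderOf_eq_one s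
  have hnorm : ∀ h ∈ C, s * h * s⁻¹ ∈ C := fun h hh => mem_centralizer_iff.2 fun y hy => by
    rw [show y = x from hy]
    have h1 : h * x⁻¹ = x⁻¹ * h := ((show Commute h x from (mem_centralizer_iff.1 hh x rfl).symm).inv_right).eq
    have h2 : x = s * x⁻¹ * s⁻¹ := by
      rw [← hinv, show s * (s * x * s⁻¹) * s⁻¹ = (s * s) * x * (s * s)⁻¹ by group, hss]; group
    calc x * (s * h * s⁻¹) = (s * x⁻¹ * s⁻¹) * (s * h * s⁻¹) := by rw [← h2]
      _ = s * (x⁻¹ * h) * s⁻¹ := by group
      _ = s * (h * x⁻¹) * s⁻¹ := by rw [h1]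
      _ = (s * h * s⁻¹) * (s * x⁻¹ * s⁻¹) := by group
      _ = _ := by rw [← h2]
  let φ : C →* C :=
    { toFun := fun h => ⟨s * h.1 * s⁻¹, hnorm _ h.2⟩
      map_one' := Subtype.ext (by simp)
      map_mul' := fun a b => Subtype.ext (by simp [mul_assoc]) }
  have hfpf : MonoidHom.FixedPointFree φ := fun h hh => by
    by_contra h1
    refine hx (E.centralizer_data hs (h := h.1) ?_ (fun e => h1 (Subtype.ext e)) ?_ hinv)
    · exact mul_inv_eq_iff_eq_mul.1 (congrArg Subtype.val hh)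
    · exact mem_centralizer_iff.2 fun y hy => by rw [show y = h.1 from hy]; exact (mem_centralizer_iff.1 h.2 x rfl).symm
  have hinvol : Function.Involutive φ := fun h => Subtype.ext (by
    show s * (s * h.1 * s⁻¹) * s⁻¹ = h.1
    rw [show s * (s * h.1 * s⁻¹) * s⁻¹ = (s * s) * h.1 * (s * s)⁻¹ by group, hss]; group)
  have key : ∀ h ∈ C, s * h * s⁻¹ = h⁻¹ := fun h hh =>
    congrArg Subtype.val (congrFun (hfpf.coe_eq_inv_of_involutive hinvol) ⟨h, hh⟩)
  refine ⟨key, IsPGroup.of_card (n := _) (Nat.eq_prime_pow_of_unique_prime_dvd Nat.card_pos.ne' fun {r} hr hrd => ?_)⟩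
  haveI : Fact r.Prime := ⟨hr⟩
  obtain ⟨⟨h, hh⟩, hhr⟩ := exists_prime_orderOf_dvd_card' (G := C) r hrd
  rw [Subgroup.orderOf_mk] at hhr
  by_contra hne
  have hr2 : r ≠ 2 := by
    rintro rfl
    have h1 : s * h = h * s := by
      have h2 : h * h = 1 := by rw [← pow_two, ← hhr]; exact pow_orderOf_eq_one h
      have h3 := key h hh
      rw [show h⁻¹ = h from inv_eq_of_mul_eq_one_right h2] at h3
      exact mul_inv_eq_iff_eq_mul.1 h3
    exact hx (E.centralizer_data hs h1 (fun e => by simp [e] at hhr)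
      (mem_centralizer_iff.2 fun y hy => by rw [show y = h from hy]; exact (mem_centralizer_iff.1 hh x rfl).symm) hinv)
  set H := zpowers h ⊔ zpowers s
  have hHc : (Nat.card H).Coprime p := by
    have hle : H ≤ normalizer (zpowers h : Set G) := sup_le le_normalizer (zpowers_le.2
      (mem_normalizer_of_forall' fun a ha => by
        obtain ⟨i, rfl⟩ := mem_zpowers_iff.1 ha
        rw [← conj_zpow, key h hh]
        exact zpow_mem (inv_mem (mem_zpowers h)) i))
    have h1 := Cfsg.Lib.Components.card_sup_dvd_mul ((zpowers h).subgroupOf (normalizer (zpowers h : Set G)))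
      ((zpowers s).subgroupOf (normalizer (zpowers h : Set G)))
    rw [← subgroupOf_sup le_normalizer (le_sup_right.trans hle), Nat.card_congr (subgroupOfEquivOfLe hle).toEquiv,
      Nat.card_congr (subgroupOfEquivOfLe (le_normalizer (H := zpowers h))).toEquiv,
      Nat.card_congr (subgroupOfEquivOfLe (le_sup_right.trans hle)).toEquiv, Nat.card_zpowers, Nat.card_zpowers,
      hhr, hs] at h1
    exact Nat.Coprime.coprime_dvd_left h1 (((Nat.coprime_primes hr E.frame.base.prime).2 hne).mul_left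
      ((Nat.coprime_primes Nat.prime_two E.frame.base.prime).2 (by have := E.frame.base.three; omega)))
  have h2 := comm_of_coprime E.frame.base.hyp hHc (mem_sup_left (mem_zpowers h)) (mem_sup_right (mem_zpowers s))
    (by rw [hhr, hs]; exact (Nat.coprime_primes hr Nat.prime_two).2 hr2)
  have h3 := key h hh
  rw [← h2, mul_inv_cancel_right] at h3
  have h4 : r ∣ 2 := hhr ▸ orderOf_dvd_of_pow_eq_one (show h ^ 2 = 1 by
    rw [pow_two]; exact mul_eq_one_iff_eq_inv.2 h3)
  exact hr2 ((Nat.prime_dvd_prime_iff_eq hr Nat.prime_two).1 h4)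

theorem real_of_mem (E : Emb p G S A M) {x h : G} (hx : Real x) (hh : h ∈ centralizer ({x} : Set G)) (hh1 : h ≠ 1) :
    Real h := by
  obtain ⟨hx2, s, hs, hinv⟩ := hx
  obtain ⟨key, hp⟩ := E.real_centralizer hx2 hs hinv
  refine ⟨fun e => hh1 ?_, s, hs, key h hh⟩
  obtain ⟨i, hi⟩ := hp ⟨h, hh⟩
  exact orderOf_eq_one_iff.1 (Nat.eq_one_of_dvd_coprimes (Nat.Coprime.pow_right i
    ((Nat.coprime_primes Nat.prime_two E.frame.base.prime).2 (by have := E.frame.base.three; omega)))
    (orderOf_dvd_of_pow_eq_one (show h ^ 2 = 1 by rw [pow_two, e]))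
    (orderOf_dvd_of_pow_eq_one (congrArg Subtype.val hi)))

theorem real_sylow (E : Emb p G S A M) {x : G} (hx : Real x) :
    ∃ T : Sylow p G, (T : Subgroup G) = centralizer ({x} : Set G) := by
  haveI : Fact p.Prime := ⟨E.frame.base.prime⟩
  obtain ⟨hx2, s, hs, hinv⟩ := id hx
  obtain ⟨key, hp⟩ := E.real_centralizer hx2 hs hinv
  obtain ⟨T, hT⟩ := hp.exists_le_sylow
  refine ⟨T, le_antisymm (fun y hy => ?_) hT⟩
  have hx1 : x ≠ 1 := fun e => hx2 (by rw [e, one_mul])
  have hxC : x ∈ centralizer ({x} : Set G) := mem_centralizer_iff.2 fun z hz => by rw [show z = x from hz]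
  haveI : Nontrivial (T : Subgroup G) := ⟨⟨x, hT hxC⟩, 1, fun e => hx1 (congrArg Subtype.val e)⟩
  haveI : Nontrivial (center (T : Subgroup G)) := T.2.center_nontrivial
  obtain ⟨z, hz⟩ := exists_ne (1 : center (T : Subgroup G))
  have hzc : ∀ w ∈ (T : Subgroup G), w * z.1.1 = z.1.1 * w := fun w hw =>
    congrArg Subtype.val (mem_center_iff.1 z.2 ⟨w, hw⟩)
  have hz1 : z.1.1 ≠ 1 := fun e => hz (Subtype.ext (Subtype.ext e))
  have hzC : z.1.1 ∈ centralizer ({x} : Set G) := mem_centralizer_iff.2 fun w hw => by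
    rw [show w = x from hw]; exact hzc x (hT hxC)
  obtain ⟨hz2, s', hs', hinv'⟩ := E.real_of_mem hx hzC hz1
  obtain ⟨key', -⟩ := E.real_centralizer hz2 hs' hinv'
  -- `C(z)` is abelian
  have hab : ∀ a ∈ centralizer ({z.1.1} : Set G), ∀ b ∈ centralizer ({z.1.1} : Set G), a * b = b * a := by
    intro a ha b hb
    have h := key' _ (mul_mem ha hb)
    rw [show s' * (a * b) * s'⁻¹ = (s' * a * s'⁻¹) * (s' * b * s'⁻¹) by group, key' a ha, key' b hb,
      mul_inv_rev] at h
    calc a * b = (b⁻¹ * a⁻¹)⁻¹ := by group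
      _ = (a⁻¹ * b⁻¹)⁻¹ := by rw [h]
      _ = b * a := by group
  have hyz : y ∈ centralizer ({z.1.1} : Set G) := mem_centralizer_iff.2 fun w hw => by
    rw [show w = z.1.1 from hw]; exact (hzc y hy).symm
  exact mem_centralizer_iff.2 fun w hw => by
    rw [show w = x from hw]
    exact hab x (mem_centralizer_iff.2 fun w hw => by rw [show w = z.1.1 from hw]; exact (hzc x (hT hxC)).symm) y hyz

theorem false (E : Emb p G S A M) : False := by
  classical
  haveI : Fact (Nat.Prime 2) := ⟨Nat.prime_two⟩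
  haveI hpf : Fact p.Prime := ⟨E.frame.base.prime⟩
  have F := E.frame
  have hp2 : (2 : ℕ).Coprime p := (Nat.coprime_primes Nat.prime_two F.base.prime).2 (by have := F.base.three; omega)
  -- a product of two noncommuting involutions
  have hprod : ∀ s u : G, orderOf s = 2 → orderOf u = 2 → s * u ≠ u * s → Real (s * u) := by
    intro s u hs hu hne
    have hss : s * s = 1 := by rw [← pow_two, ← hs]; exact pow_orderOf_eq_one s
    have huu : u * u = 1 := by rw [← pow_two, ← hu]; exact pow_orderOf_eq_one u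
    have hsi : s⁻¹ = s := inv_eq_of_mul_eq_one_right hss
    have hui : u⁻¹ = u := inv_eq_of_mul_eq_one_right huu
    refine ⟨fun e => hne ?_, s, hs, ?_⟩
    · calc s * u = (s * u)⁻¹ := eq_inv_of_mul_eq_one_left e
        _ = u * s := by rw [mul_inv_rev, hsi, hui]
    · rw [mul_inv_rev, hsi, hui, show s * (s * u) * s = (s * s) * u * s by group, hss, one_mul]
  obtain ⟨t0, ht0, ht02⟩ := E.exists_inv
  have ht01 : t0 ≠ 1 := fun e => by simp [e] at ht02
  obtain ⟨u0, hu0, hu0A⟩ : ∃ u : G, orderOf u = 2 ∧ u ∉ A := by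
    by_contra hno
    push Not at hno
    refine E.se.1 ?_
    rw [E.eq_normalizer, eq_top_iff]
    refine fun g _ => mem_normalizer_of_forall' fun a ha => ?_
    by_cases ha1 : a = 1
    · rw [ha1, mul_one, mul_inv_cancel]; exact one_mem _
    exact hno _ (by rw [show g * a * g⁻¹ = MulAut.conj g a from rfl, MulEquiv.orderOf_eq,
      orderOf_eq_prime (F.sq a ha) ha1])
  have hne0 : t0 * u0 ≠ u0 * t0 := fun e => hu0A (by
    have h : u0 ∈ centralizer ({t0} : Set G) := mem_centralizer_iff.2 fun y hy => by rw [show y = t0 from hy]; exact e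
    have hM : u0 ∈ M := Cfsg.Lib.StrongEmb.centralizer_le E.se ht02 (E.sylow_le (F.le ht0)) h
    exact E.invol_of_mem hu0 hM)
  obtain ⟨T, hT⟩ := E.real_sylow (hprod t0 u0 ht02 hu0 hne0)
  set x0 := t0 * u0
  have hx0 : Real x0 := hprod t0 u0 ht02 hu0 hne0
  let 𝒳 := {x : G // Real x}
  let P2 := {q : G × G // orderOf q.1 = 2 ∧ orderOf q.2 = 2 ∧ q.1 * q.2 ≠ q.2 * q.1}
  haveI : Fintype 𝒳 := Fintype.ofFinite 𝒳
  -- fibres over strongly real elements
  have hfib : ∀ x : 𝒳, Nat.card {q : P2 // q.1.1 * q.1.2 = x.1} = Nat.card (T : Subgroup G) := by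
    rintro ⟨x, hx⟩
    obtain ⟨T', hT'⟩ := E.real_sylow hx
    obtain ⟨hx2, s0, hs0, hinv⟩ := id hx
    obtain ⟨key, hpC⟩ := E.real_centralizer hx2 hs0 hinv
    rw [show Nat.card (T : Subgroup G) = Nat.card (T' : Subgroup G) from Nat.card_congr (T.equiv T').toEquiv, hT']
    have hss : s0 * s0 = 1 := by rw [← pow_two, ← hs0]; exact pow_orderOf_eq_one s0
    have hsi : s0⁻¹ = s0 := inv_eq_of_mul_eq_one_right hss
    have hmk : ∀ h ∈ centralizer ({x} : Set G), orderOf (s0 * h) = 2 ∧ orderOf (s0 * h * x) = 2 ∧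
        s0 * h * (s0 * h * x) = x ∧ (s0 * h) * (s0 * h * x) ≠ (s0 * h * x) * (s0 * h) := by
      intro h hh
      have hxh : x * h = h * x := mem_centralizer_iff.1 hh x rfl
      have hk := key h hh
      rw [hsi] at hk hinv
      have hsh : (s0 * h) * (s0 * h) = 1 := by
        rw [show s0 * h * (s0 * h) = (s0 * h * s0) * h by group, hk, inv_mul_cancel]
      have h1 : s0 * h ≠ 1 := by
        intro e
        have h2 : h = s0 := (eq_inv_of_mul_eq_one_right e).trans hsi
        obtain ⟨i, hi⟩ := hpC ⟨h, hh⟩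
        have h3 : orderOf h ∣ p ^ i := orderOf_dvd_of_pow_eq_one (congrArg Subtype.val hi)
        rw [h2, hs0] at h3
        exact absurd (Nat.eq_one_of_dvd_coprimes (Nat.Coprime.pow_right i hp2) dvd_rfl h3) (by norm_num)
      have h2 : (s0 * h * x) * (s0 * h * x) = 1 := by
        rw [show s0 * h * x * (s0 * h * x) = s0 * (h * x) * s0 * (h * x) by group,
          show s0 * (h * x) * s0 = (s0 * h * s0) * ((s0 * s0)⁻¹ * (s0 * x * s0)) by group, hk, hinv, hss, inv_one,
          one_mul, ← hxh]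
        group
      have h3 : s0 * h * (s0 * h * x) = x := by rw [← mul_assoc, hsh, one_mul]
      have h4 : (s0 * h) * (s0 * h * x) ≠ (s0 * h * x) * (s0 * h) := by
        intro e
        rw [h3] at e
        apply hx2
        have h5 : s0 * h * x * (s0 * h) = x⁻¹ := by
          rw [show s0 * h * x * (s0 * h) = (s0 * (h * x) * s0) * h by group,
            show s0 * (h * x) * s0 = (s0 * h * s0) * ((s0 * s0)⁻¹ * (s0 * x * s0)) by group, hk, hinv, hss, inv_one,
            one_mul]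
          have h6 : h⁻¹ * x⁻¹ = x⁻¹ * h⁻¹ := by rw [← mul_inv_rev, ← mul_inv_rev, hxh]
          rw [h6]; group
        rw [h5] at e
        calc x * x = x * x⁻¹ := by rw [← e]
          _ = 1 := mul_inv_cancel x
      exact ⟨orderOf_eq_prime (by rw [pow_two]; exact hsh) h1, orderOf_eq_prime (by rw [pow_two]; exact h2)
        (fun e => h4 (by rw [e, mul_one, one_mul])), h3, h4⟩
    refine Nat.card_congr
      { toFun := fun q => ⟨s0 * q.1.1.1, ?_⟩
        invFun := fun h => ⟨⟨(s0 * h.1, s0 * h.1 * x), (hmk h.1 h.2).1, (hmk h.1 h.2).2.1, (hmk h.1 h.2).2.2.2⟩,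
          (hmk h.1 h.2).2.2.1⟩
        left_inv := fun q => ?_
        right_inv := fun h => Subtype.ext (by
          show s0 * (s0 * h.1) = h.1
          rw [← mul_assoc, hss, one_mul]) }
    · obtain ⟨⟨⟨s, u⟩, hs, hu, -⟩, hq⟩ := q
      change s * u = x at hq
      show s0 * s ∈ centralizer ({x} : Set G)
      have hs2 : s * s = 1 := by rw [← pow_two, ← hs]; exact pow_orderOf_eq_one s
      have hu2 : u * u = 1 := by rw [← pow_two, ← hu]; exact pow_orderOf_eq_one u
      have hinvs : s * x * s⁻¹ = x⁻¹ := by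
        rw [← hq, mul_inv_rev, inv_eq_of_mul_eq_one_right hu2, inv_eq_of_mul_eq_one_right hs2, ← mul_assoc, hs2, one_mul]
      refine mem_centralizer_iff.2 fun y hy => ?_
      rw [show y = x from hy]
      have h1 : s0 * s * x * (s0 * s)⁻¹ = x := by
        rw [show s0 * s * x * (s0 * s)⁻¹ = s0 * (s * x * s⁻¹) * s0⁻¹ by group, hinvs,
          show s0 * x⁻¹ * s0⁻¹ = (s0 * x * s0⁻¹)⁻¹ by group, hinv, inv_inv]
      exact (mul_inv_eq_iff_eq_mul.1 h1).symm
    · obtain ⟨⟨⟨s, u⟩, hs, hu, -⟩, hq⟩ := q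
      change s * u = x at hq
      refine Subtype.ext (Subtype.ext (Prod.ext ?_ ?_))
      · show s0 * (s0 * s) = s
        rw [← mul_assoc, hss, one_mul]
      · show s0 * (s0 * s) * x = u
        rw [← mul_assoc s0, hss, one_mul, ← hq, ← mul_assoc, ← pow_two, ← hs, pow_orderOf_eq_one, one_mul]
  let e1 : P2 ≃ Σ x : 𝒳, {q : P2 // q.1.1 * q.1.2 = x.1} :=
    { toFun := fun q => ⟨⟨q.1.1 * q.1.2, hprod _ _ q.2.1 q.2.2.1 q.2.2.2⟩, q, rfl⟩
      invFun := fun z => z.2.1
      left_inv := fun _ => rfl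
      right_inv := by
        rintro ⟨⟨x, hx⟩, q, hq⟩
        cases hq
        rfl }
  have hP2 : Nat.card P2 = Nat.card 𝒳 * Nat.card (T : Subgroup G) := by
    rw [Nat.card_congr e1, Nat.card_sigma, Finset.sum_congr rfl fun x _ => hfib x, Finset.sum_const,
      Finset.card_univ, ← Nat.card_eq_fintype_card, smul_eq_mul]
  -- the involutions
  let I := {s : G // orderOf s = 2}
  haveI : Fintype I := Fintype.ofFinite I
  have hAc : ∀ s : I, Nat.card {u : I // s.1 * u.1 = u.1 * s.1} = p := by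
    intro s
    obtain ⟨g, hgA, hg1⟩ := E.exists_conj_mem_A s.2
    have hA : Nat.card {a : A // a ≠ 1} = p := by
      haveI := Fintype.ofFinite A
      rw [Nat.card_eq_fintype_card, Fintype.card_subtype_compl, Fintype.card_subtype_eq, ← Nat.card_eq_fintype_card,
        E.automizer.1]
      omega
    rw [← hA]
    refine Nat.card_congr
      { toFun := fun u => ⟨⟨g * u.1.1 * g⁻¹, ?_⟩, ?_⟩
        invFun := fun a => ⟨⟨g⁻¹ * a.1.1 * g, ?_⟩, ?_⟩
        left_inv := fun u => Subtype.ext (Subtype.ext (by simp [mul_assoc]))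
        right_inv := fun a => Subtype.ext (Subtype.ext (by simp [mul_assoc])) }
    · have h2 : orderOf (g * u.1.1 * g⁻¹) = 2 := by
        rw [show g * u.1.1 * g⁻¹ = MulAut.conj g u.1.1 from rfl, MulEquiv.orderOf_eq, u.1.2]
      refine E.invol_of_mem h2 ?_
      have h3 : g * u.1.1 * g⁻¹ ∈ centralizer ({g * s.1 * g⁻¹} : Set G) := mem_centralizer_iff.2 fun y hy => by
        rw [show y = g * s.1 * g⁻¹ from hy, show g * s.1 * g⁻¹ * (g * u.1.1 * g⁻¹) = g * (s.1 * u.1.1) * g⁻¹ by group,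
          u.2]
        group
      exact Cfsg.Lib.StrongEmb.centralizer_le E.se (orderOf_eq_prime (F.sq _ hgA) hg1)
        (E.sylow_le (F.le hgA)) h3
    · intro e
      have h : g * u.1.1 * g⁻¹ = 1 := congrArg Subtype.val e
      have h2 : u.1.1 = 1 := conj_eq_one_iff.1 h
      have := u.1.2
      rw [h2, orderOf_one] at this
      omega
    · rw [show g⁻¹ * a.1.1 * g = MulAut.conj g⁻¹ a.1.1 by simp, MulEquiv.orderOf_eq]
      exact orderOf_eq_prime (F.sq _ a.1.2) fun e => a.2 (Subtype.ext e)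
    · show s.1 * (g⁻¹ * a.1.1 * g) = g⁻¹ * a.1.1 * g * s.1
      calc s.1 * (g⁻¹ * a.1.1 * g) = g⁻¹ * ((g * s.1 * g⁻¹) * a.1.1) * g := by group
        _ = g⁻¹ * (a.1.1 * (g * s.1 * g⁻¹)) * g := by rw [F.comm _ hgA _ a.1.2]
        _ = _ := by group
  let e2 : P2 ≃ Σ s : I, {u : I // ¬ s.1 * u.1 = u.1 * s.1} :=
    { toFun := fun q => ⟨⟨q.1.1, q.2.1⟩, ⟨q.1.2, q.2.2.1⟩, q.2.2.2⟩
      invFun := fun z => ⟨(z.1.1, z.2.1.1), z.1.2, z.2.1.2, z.2.2⟩
      left_inv := fun _ => rfl
      right_inv := fun _ => rfl }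
  have hP2' : Nat.card P2 = Nat.card I * (Nat.card I - p) := by
    rw [Nat.card_congr e2, Nat.card_sigma, Finset.sum_congr rfl fun s _ => ?_, Finset.sum_const, Finset.card_univ,
      ← Nat.card_eq_fintype_card, smul_eq_mul]
    have h := hAc s
    haveI := Fintype.ofFinite {u : I // s.1 * u.1 = u.1 * s.1}
    haveI := Fintype.ofFinite {u : I // ¬ s.1 * u.1 = u.1 * s.1}
    rw [Nat.card_eq_fintype_card] at h ⊢
    rw [Fintype.card_subtype_compl, h, ← Nat.card_eq_fintype_card]
  -- `C(t0)` has order prime to `p`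
  have hC : ¬ p ∣ Nat.card (centralizer ({t0} : Set G)) := by
    intro hd
    obtain ⟨⟨h, hh⟩, hhp⟩ := exists_prime_orderOf_dvd_card' (G := centralizer ({t0} : Set G)) p hd
    rw [Subgroup.orderOf_mk] at hhp
    obtain ⟨R, hR⟩ := (IsPGroup.of_card (n := 1) (G := zpowers h) (by rw [Nat.card_zpowers, hhp, pow_one])).exists_le_sylow
    obtain ⟨g, hg⟩ := MulAction.exists_smul_eq G R T
    have h1 : g * h * g⁻¹ ∈ ((g • R : Sylow p G) : Subgroup G) :=
      Subgroup.smul_mem_pointwise_smul (a := MulAut.conj g) _ _ (hR (mem_zpowers h))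
    rw [hg, hT] at h1
    have hh1 : g * h * g⁻¹ ≠ 1 := fun e => by
      rw [conj_eq_one_iff.1 e, orderOf_one] at hhp
      exact F.base.prime.ne_one hhp.symm
    obtain ⟨hy2, s, hs, hinv⟩ := E.real_of_mem hx0 h1 hh1
    obtain ⟨-, hpg⟩ := E.real_centralizer hy2 hs hinv
    have ht : g * t0 * g⁻¹ ∈ centralizer ({g * h * g⁻¹} : Set G) := mem_centralizer_iff.2 fun y hy => by
      rw [show y = g * h * g⁻¹ from hy, show g * h * g⁻¹ * (g * t0 * g⁻¹) = g * (h * t0) * g⁻¹ by group,
        ← mem_centralizer_iff.1 hh t0 rfl]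
      group
    obtain ⟨i, hi⟩ := hpg ⟨_, ht⟩
    have h3 : orderOf (g * t0 * g⁻¹) ∣ p ^ i := orderOf_dvd_of_pow_eq_one (congrArg Subtype.val hi)
    rw [show g * t0 * g⁻¹ = MulAut.conj g t0 from rfl, MulEquiv.orderOf_eq, ht02] at h3
    exact absurd (Nat.eq_one_of_dvd_coprimes (Nat.Coprime.pow_right i hp2) dvd_rfl h3) (by norm_num)
  have hI : Nat.card I * Nat.card (centralizer ({t0} : Set G)) = Nat.card G := by
    have horb : Nat.card I = Nat.card (MulAction.orbit (ConjAct G) t0) := by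
      refine Nat.card_congr (Equiv.subtypeEquivRight fun s => ?_)
      rw [ConjAct.mem_orbit_conjAct]
      refine ⟨fun hs => (Cfsg.Lib.StrongEmb.all_conj E.se ht02 hs).symm, fun hs => ?_⟩
      obtain ⟨g, hg⟩ := isConj_iff.1 hs
      rw [← show orderOf (g * s * g⁻¹) = orderOf s from MulEquiv.orderOf_eq (MulAut.conj g) s, hg, ht02]
    rw [horb, Nat.card_coe_set_eq, ← MulAction.index_stabilizer (G := ConjAct G) t0, mul_comm,
      ← Nat.card_congr (ConjAct.toConjAct (G := G)).toEquiv.symm]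
    have h := (MulAction.stabilizer (ConjAct G) t0).card_mul_index
    rw [← h]
    congr 1
    · exact Nat.card_congr (Equiv.subtypeEquiv ConjAct.toConjAct.toEquiv fun g => by
        rw [MulAction.mem_stabilizer_iff]
        show g ∈ centralizer ({t0} : Set G) ↔ ConjAct.toConjAct g • t0 = t0
        rw [ConjAct.toConjAct_smul, mul_inv_eq_iff_eq_mul]
        exact ⟨fun h => (mem_centralizer_iff.1 h t0 rfl).symm, fun h => mem_centralizer_iff.2 fun y hy => by
          rw [show y = t0 from hy, h]⟩)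
  obtain ⟨k, hk⟩ := IsPGroup.iff_card.1 T.2
  have hTI : Nat.card (T : Subgroup G) ∣ Nat.card I := by
    have h1 : Nat.card (T : Subgroup G) ∣ Nat.card I * Nat.card (centralizer ({t0} : Set G)) :=
      hI ▸ (T : Subgroup G).card_subgroup_dvd_card
    exact Nat.Coprime.dvd_of_dvd_mul_right (hk ▸ Nat.Coprime.pow_left k (F.base.prime.coprime_iff_not_dvd.2 hC)) h1
  have hk1 : k ≠ 0 := by
    rintro rfl
    rw [pow_zero] at hk
    have hx0T : x0 ∈ (T : Subgroup G) := hT ▸ mem_centralizer_iff.2 fun y hy => by rw [show y = x0 from hy]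
    rw [card_eq_one.1 hk, mem_bot] at hx0T
    exact hx0.1 (by rw [hx0T, one_mul])
  have hpI : p ∣ Nat.card I - p := Nat.dvd_sub ((hk ▸ dvd_pow_self p hk1).trans hTI) dvd_rfl
  have hX : p ∣ Nat.card 𝒳 := by
    have h : Nat.card (T : Subgroup G) * p ∣ Nat.card (T : Subgroup G) * Nat.card 𝒳 := by
      rw [mul_comm _ (Nat.card 𝒳), ← hP2, hP2']
      exact mul_dvd_mul hTI hpI
    exact Nat.dvd_of_mul_dvd_mul_left Nat.card_pos h
  -- the action of a Sylow subgroup
  have hconj : ∀ g x : G, Real x → Real (g * x * g⁻¹) := by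
    intro g x hx
    obtain ⟨hx2, s, hs, hinv⟩ := hx
    refine ⟨fun e => hx2 ?_, g * s * g⁻¹, ?_, ?_⟩
    · rw [show g * x * g⁻¹ * (g * x * g⁻¹) = g * (x * x) * g⁻¹ by group] at e
      exact conj_eq_one_iff.1 e
    · rw [show g * s * g⁻¹ = MulAut.conj g s from rfl, MulEquiv.orderOf_eq, hs]
    · rw [show g * s * g⁻¹ * (g * x * g⁻¹) * (g * s * g⁻¹)⁻¹ = g * (s * x * s⁻¹) * g⁻¹ by group, hinv]
      group
  letI : MulAction (T : Subgroup G) 𝒳 :=
    { smul := fun t x => ⟨t.1 * x.1 * t.1⁻¹, hconj t.1 x.1 x.2⟩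
      one_smul := fun x => Subtype.ext (show (1 : G) * x.1 * (1 : G)⁻¹ = x.1 by simp)
      mul_smul := fun a b x => Subtype.ext (show (a.1 * b.1) * x.1 * (a.1 * b.1)⁻¹ =
        a.1 * (b.1 * x.1 * b.1⁻¹) * a.1⁻¹ by group) }
  have hmod := T.2.card_modEq_card_fixedPoints 𝒳
  have hfix : Nat.card (MulAction.fixedPoints (T : Subgroup G) 𝒳) + 1 = Nat.card (T : Subgroup G) := by
    let e3 : MulAction.fixedPoints (T : Subgroup G) 𝒳 ≃ {t : (T : Subgroup G) // t ≠ 1} :=
      { toFun := fun y => ⟨⟨y.1.1, by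
            refine hT.ge (mem_centralizer_iff.2 fun w hw => ?_)
            rw [show w = x0 from hw]
            have hx0T : x0 ∈ (T : Subgroup G) := hT ▸ mem_centralizer_iff.2 fun y hy => by rw [show y = x0 from hy]
            exact mul_inv_eq_iff_eq_mul.1 (congrArg Subtype.val (y.2 ⟨x0, hx0T⟩))⟩,
          fun e => y.1.2.1 (by rw [show y.1.1 = 1 from congrArg Subtype.val e, one_mul])⟩
        invFun := fun t => ⟨⟨t.1.1, E.real_of_mem hx0 (hT.le t.1.2) fun e => t.2 (Subtype.ext e)⟩, fun r => Subtype.ext (by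
          show r.1 * t.1.1 * r.1⁻¹ = t.1.1
          obtain ⟨hx2, s, hs, hinv⟩ := id hx0
          obtain ⟨key, -⟩ := E.real_centralizer hx2 hs hinv
          have hab : ∀ a ∈ centralizer ({x0} : Set G), ∀ b ∈ centralizer ({x0} : Set G), a * b = b * a := by
            intro a ha b hb
            have h := key _ (mul_mem ha hb)
            rw [show s * (a * b) * s⁻¹ = (s * a * s⁻¹) * (s * b * s⁻¹) by group, key a ha, key b hb,
              mul_inv_rev] at h
            calc a * b = (b⁻¹ * a⁻¹)⁻¹ := by group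
              _ = (a⁻¹ * b⁻¹)⁻¹ := by rw [h]
              _ = b * a := by group
          rw [hab _ (hT.le r.2) _ (hT.le t.1.2), mul_inv_cancel_right])⟩
        left_inv := fun _ => rfl
        right_inv := fun _ => rfl }
    haveI := Fintype.ofFinite (T : Subgroup G)
    rw [Nat.card_congr e3, Nat.card_eq_fintype_card, Fintype.card_subtype_compl, Fintype.card_subtype_eq,
      ← Nat.card_eq_fintype_card]
    have := Nat.card_pos (α := (T : Subgroup G))
    omega
  have hpf2 : p ∣ Nat.card (MulAction.fixedPoints (T : Subgroup G) 𝒳) :=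
    Nat.modEq_zero_iff_dvd.1 (hmod.symm.trans (Nat.modEq_zero_iff_dvd.2 hX))
  have h1 : p ∣ 1 := (Nat.dvd_add_iff_right hpf2).2 (hfix.symm ▸ hk ▸ dvd_pow_self p hk1)
  exact F.base.prime.ne_one (Nat.dvd_one.1 h1)

end Emb

end Cfsg.Lib.PPrimeNil
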