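import Cfsg.Agent.SolvStruct.PPrimeNilpotent.Embedded
import Mathlib.GroupTheory.GroupAction.Primitive

/-!
The automizer of the strongly closed subgroup has order `p = |A| - 1`.
-/

set_option autoImplicit false
set_option linter.style.haveILetI false
set_option linter.unusedSectionVars false

namespace Cfsg.Lib.PPrimeNil

open Subgroup MulAction
open scoped commutatorElement

universe u

variable {p : ℕ} {G : Type u} [Group G] [Finite G]

theorem mersenne {p k n : ℕ} (hp : p.Prime) (hp3 : 3 < p) (hn : 3 ≤ n) (h : p ^ k + 1 = 2 ^ n) : p + 1 = 2 ^ n := by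
  have hodd : Odd p := hp.odd_of_ne_two (by omega)
  obtain ⟨c, hc⟩ := hodd
  rcases Nat.even_or_odd k with ⟨j, hj⟩ | ⟨j, hj⟩
  · exfalso
    have h8 : (2 : ℕ) ^ n % 4 = 0 := Nat.mod_eq_zero_of_dvd ⟨2 ^ (n - 2), by rw [show (4 : ℕ) = 2 ^ 2 by norm_num, ← pow_add]; congr 1; omega⟩
    obtain ⟨d, hd⟩ : Odd (p ^ j) := Odd.pow ⟨c, hc⟩
    rw [hj, pow_add, hd] at h
    rw [← h] at h8
    have e : (2 * d + 1) * (2 * d + 1) + 1 = 4 * (d * d + d) + 2 := by ring
    rw [e] at h8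
    omega
  · have key : ∀ j : ℕ, ∃ q, p ^ (2 * j + 1) + 1 = (p + 1) * (2 * q + 1) := by
      intro j
      induction j with
      | zero => exact ⟨0, by ring⟩
      | succ j ih =>
        obtain ⟨q, hq⟩ := ih
        obtain ⟨d, hd⟩ : ∃ d, p * p * (2 * q + 1) = d + p := ⟨p * p * (2 * q + 1) - p, by
          have : p ≤ p * p * (2 * q + 1) := by
            calc p ≤ p * p := Nat.le_mul_of_pos_left p (by omega)
              _ ≤ _ := Nat.le_mul_of_pos_right _ (by omega)
          omega⟩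
        have h1 : p ^ (2 * (j + 1) + 1) + p * p = p * p * ((p + 1) * (2 * q + 1)) := by
          rw [← hq]; ring
        have h2 : p * p * (2 * q + 1) * (p + 1) = (d + p) * (p + 1) := by rw [hd]
        have h3 : (d + 1) % 2 = 1 := by
          have : p * p * (2 * q + 1) = 2 * (2 * c * c * (2 * q + 1) + 2 * c * (2 * q + 1) + q) + 1 := by
            rw [hc]; ring
          omega
        obtain ⟨q', hq'⟩ : ∃ q', d + 1 = 2 * q' + 1 := ⟨(d + 1) / 2, by omega⟩
        exact ⟨q', by rw [← hq']; nlinarith [h1, h2]⟩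
    obtain ⟨q, hq⟩ := key j
    rw [← hj, h] at hq
    have hcop : (2 * q + 1).Coprime (2 ^ n) := Nat.Coprime.pow_right n (Nat.coprime_two_right.2 ⟨q, rfl⟩)
    have h1 : 2 * q + 1 = 1 := Nat.eq_one_of_dvd_coprimes hcop dvd_rfl ⟨p + 1, by rw [hq, mul_comm]⟩
    rw [h1, mul_one] at hq
    exact hq.symm

/-- the frame with the strongly embedded subgroup -/
structure Emb (p : ℕ) (G : Type u) [Group G] (S : Sylow 2 G) (A M : Subgroup G) : Prop where
  frame : Frame p G S A
  se : Cfsg.IsStronglyEmbedded M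
  sylow_le : (S : Subgroup G) ≤ M
  norm_le : normalizer (A : Set G) ≤ M

namespace Emb

variable {S : Sylow 2 G} {A M : Subgroup G}

theorem exists_inv (E : Emb p G S A M) : ∃ a ∈ A, orderOf a = 2 := by
  haveI : Fact (Nat.Prime 2) := ⟨Nat.prime_two⟩
  obtain ⟨a, ha, ha1, -⟩ := E.frame.exists_central
  exact ⟨a, ha, orderOf_eq_prime (E.frame.sq a ha) ha1⟩

theorem invol_mem (E : Emb p G S A M) {v : G} (hv : v ∈ (S : Subgroup G)) (hv2 : orderOf v = 2) : v ∈ A := by
  obtain ⟨a, ha, ha2⟩ := E.exists_inv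
  obtain ⟨g, hg⟩ := isConj_iff.1 (Cfsg.Lib.StrongEmb.all_conj E.se ha2 hv2)
  exact hg ▸ E.frame.closed.2 a ha g (hg.symm ▸ hv)

theorem transitive (E : Emb p G S A M) {a b : G} (ha : a ∈ A) (hb : b ∈ A) (ha1 : a ≠ 1) (hb1 : b ≠ 1) :
    ∃ x ∈ normalizer (A : Set G), x * a * x⁻¹ = b := by
  haveI : Fact (Nat.Prime 2) := ⟨Nat.prime_two⟩
  obtain ⟨g, hg⟩ := isConj_iff.1 (Cfsg.Lib.StrongEmb.all_conj E.se
    (orderOf_eq_prime (E.frame.sq a ha) ha1) (orderOf_eq_prime (E.frame.sq b hb) hb1))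
  obtain ⟨x, hx, hxe⟩ := E.frame.fus {a} (Set.singleton_subset_iff.2 ha) g (by
    intro c hc
    rw [show c = a from hc, hg]
    exact hb)
  exact ⟨x, hx, (hxe a rfl).trans hg⟩

/-- the automizer -/
instance act (A : Subgroup G) : MulAction (auto A).range {a : A // a ≠ 1} where
  smul y a := ⟨y.1 a.1, by
    obtain ⟨x, hx⟩ := y.2
    intro h
    refine a.2 (y.1.injective (h.trans ?_))
    rw [← hx]
    exact Subtype.ext (by rw [auto_apply]; simp)⟩
  one_smul _ := Subtype.ext rfl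
  mul_smul _ _ _ := Subtype.ext rfl

theorem act_val (A : Subgroup G) (y : (auto A).range) (a : {a : A // a ≠ 1}) :
    (y • a).1 = y.1 a.1 := rfl

theorem automizer (E : Emb p G S A M) :
    Nat.card A = p + 1 ∧ Nat.card (auto A).range = p := by
  haveI : Fact (Nat.Prime 2) := ⟨Nat.prime_two⟩
  have F := E.frame
  haveI hpf : Fact p.Prime := ⟨F.base.prime⟩
  set Y := (auto A).range
  set X := {a : A // a ≠ 1}
  haveI : IsPretransitive Y X := ⟨fun a b => by
    obtain ⟨x, hx, hxe⟩ := E.transitive a.1.2 b.1.2 (fun e => a.2 (Subtype.ext e)) (fun e => b.2 (Subtype.ext e))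
    exact ⟨⟨auto A ⟨x, hx⟩, ⟨_, rfl⟩⟩, Subtype.ext (Subtype.ext hxe)⟩⟩
  obtain ⟨a0, ha0, ha02⟩ := E.exists_inv
  have ha01 : a0 ≠ 1 := fun e => by simp [e] at ha02
  let x0 : X := ⟨⟨a0, ha0⟩, fun e => ha01 (congrArg Subtype.val e)⟩
  haveI : FaithfulSMul Y X := ⟨fun {y z} h => Subtype.ext (Equiv.ext fun a => by
    by_cases ha : a = 1
    · obtain ⟨_, x, rfl⟩ := y
      obtain ⟨_, x', rfl⟩ := z
      subst ha
      exact Subtype.ext (by rw [auto_apply, auto_apply]; simp)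
    · exact congrArg Subtype.val (h ⟨a, ha⟩))⟩
  have hXc : Nat.card X + 1 = Nat.card A := by
    classical
    haveI := Fintype.ofFinite A
    haveI := Fintype.ofFinite X
    rw [Nat.card_eq_fintype_card, Nat.card_eq_fintype_card, Fintype.card_subtype_compl, Fintype.card_subtype_eq]
    have := Fintype.card_pos (α := A)
    omega
  have horb : Nat.card X ∣ Nat.card Y := by
    rw [← index_stabilizer_of_transitive Y x0]
    exact index_dvd_card _
  -- the prime divisors of `|Y|`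
  have hprimes : ∀ r : ℕ, r.Prime → r ∣ Nat.card Y → r = 2 ∨ r = p := by
    intro r hr hd
    haveI : Fact r.Prime := ⟨hr⟩
    by_contra hcon
    push Not at hcon
    obtain ⟨⟨_, x, rfl⟩, hy⟩ := exists_prime_orderOf_dvd_card' (G := Y) r hd
    have hy' : orderOf (auto A x) = r := by rw [← hy, ← Subgroup.orderOf_coe]
    obtain ⟨e, w, hw, hn⟩ := Nat.exists_eq_pow_mul_and_not_dvd (orderOf_pos x).ne' r hr.ne_one
    have hd' : orderOf (x : G) ^ 1 = r ^ e * w := by rw [pow_one, Subgroup.orderOf_coe, hn]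
    have hz : orderOf ((x : G) ^ w) ∣ r ^ e := orderOf_dvd_of_pow_eq_one (by
      rw [← pow_mul, mul_comm, ← hd', pow_one, pow_orderOf_eq_one])
    have h1 : auto A x ^ w = 1 := by
      rw [← map_pow, auto_ker]
      refine F.odd_centralizes_of_coprime (x ^ w).2 (Odd.of_dvd_nat (Odd.pow (hr.odd_of_ne_two hcon.1)) hz) ?_
      exact Nat.Coprime.coprime_dvd_left hz (Nat.Coprime.pow_left e
        ((Nat.coprime_primes hr F.base.prime).2 hcon.2))
    exact hw (hy' ▸ orderOf_dvd_of_pow_eq_one h1)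
  obtain ⟨n, hn⟩ := IsPGroup.iff_card.1 F.isPGroup
  have hn3 : 3 ≤ n := by
    by_contra hc
    have h8 := F.card_ge
    rw [hn] at h8
    have := Nat.pow_le_pow_right (show 1 ≤ 2 by norm_num) (show n ≤ 2 by omega)
    omega
  have hXodd : ¬ 2 ∣ Nat.card X := by
    intro hd
    have : 2 ∣ Nat.card A := hn ▸ dvd_pow_self 2 (by omega)
    omega
  obtain ⟨k, hk⟩ : ∃ k, Nat.card X = p ^ k := by
    refine ⟨_, Nat.eq_prime_pow_of_unique_prime_dvd (by have := F.card_ge; omega) fun {d} hd hdd => ?_⟩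
    rcases hprimes d hd (hdd.trans horb) with e | e
    · exact absurd (e ▸ hdd) hXodd
    · exact e
  have hXp : Nat.card X = p := by
    have h := mersenne F.base.prime F.base.three hn3 (by rw [← hk, hXc, hn])
    rw [← hn, ← hXc] at h
    omega
  refine ⟨by omega, ?_⟩
  -- the stabilizer is trivial
  set H := stabilizer Y x0
  have hYc : Nat.card Y = p * Nat.card H := by
    rw [← hXp, ← index_stabilizer_of_transitive Y x0, mul_comm, Subgroup.card_mul_index]
  suffices hH : H = ⊥ by rw [hYc, hH, card_bot, mul_one]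
  by_contra hH
  have hpH : ¬ p ∣ Nat.card H := by
    intro hd
    have h1 : Nat.card Y ∣ p.factorial := by
      have := card_dvd_of_injective (MulAction.toPermHom Y X) MulAction.toPerm_injective
      rwa [Nat.card_perm, hXp] at this
    rw [hYc, ← Nat.mul_factorial_pred F.base.prime.ne_zero] at h1
    have h2 := hd.trans (Nat.dvd_of_mul_dvd_mul_left F.base.prime.pos h1)
    rw [F.base.prime.dvd_factorial] at h2
    have := F.base.prime.pos
    omega
  have h2H : 2 ∣ Nat.card H := by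
    have h1 : Nat.card H ≠ 1 := fun e => hH (card_eq_one.1 e)
    obtain ⟨r, hr, hrd⟩ := Nat.exists_prime_and_dvd h1
    rcases hprimes r hr (hrd.trans H.card_subgroup_dvd_card) with e | e
    · exact e ▸ hrd
    · exact absurd (e ▸ hrd) hpH
  obtain ⟨⟨s, hsH⟩, hs⟩ := exists_prime_orderOf_dvd_card' (G := H) 2 h2H
  have hs2 : s * s = 1 := by
    have h := congrArg Subtype.val (orderOf_dvd_iff_pow_eq_one.1 hs.dvd)
    rwa [SubmonoidClass.coe_pow, pow_two] at h
  have hs1 : s ≠ 1 := fun e => by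
    rw [orderOf_eq_one_iff.2 (show (⟨s, hsH⟩ : H) = 1 from Subtype.ext e)] at hs
    norm_num at hs
  haveI : Group.IsSolvable Y := by
    haveI := F.base.proper _ (F.base.ne_top F.nbot
      (Group.isSolvable_of_comm fun a b => Subtype.ext (F.comm _ a.2 _ b.2)))
    exact Group.isSolvable_of_surjective (auto A).rangeRestrict_surjective
  haveI : Nontrivial Y := ⟨⟨s, 1, hs1⟩⟩
  obtain ⟨N, hNn, hN1, hNc⟩ : ∃ N : Subgroup Y, N.Normal ∧ N ≠ ⊥ ∧ ∀ a ∈ N, ∀ b ∈ N, a * b = b * a := by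
    obtain ⟨m, hm⟩ := (Group.isSolvable_def Y).1 inferInstance
    classical
    obtain ⟨i, hi1, hi2⟩ : ∃ i, derivedSeries Y i ≠ ⊥ ∧ derivedSeries Y (i + 1) = ⊥ := by
      have hex : ∃ j, derivedSeries Y j = ⊥ := ⟨m, hm⟩
      have h0 : Nat.find hex ≠ 0 := fun e => by
        have := Nat.find_spec hex
        rw [e] at this
        exact top_ne_bot this
      refine ⟨Nat.find hex - 1, Nat.find_min hex (by omega), ?_⟩
      rw [show Nat.find hex - 1 + 1 = Nat.find hex by omega]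
      exact Nat.find_spec hex
    refine ⟨_, derivedSeries_normal Y i, hi1, fun a ha b hb => ?_⟩
    have h : ⁅a, b⁆ ∈ derivedSeries Y (i + 1) := commutator_mem_commutator ha hb
    rw [hi2, mem_bot] at h
    exact commutatorElement_eq_one_iff_mul_comm.1 h
  haveI := hNn
  haveI : IsPreprimitive Y X := IsPreprimitive.of_prime_card (hXp ▸ F.base.prime)
  haveI : IsPretransitive N X := IsQuasiPreprimitive.isPretransitive_of_normal (by
    intro h
    refine hN1 ((eq_bot_iff_forall N).2 fun y hy => ?_)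
    refine eq_of_smul_eq_smul (α := X) fun a => ?_
    rw [one_smul]
    exact (h.symm ▸ Set.mem_univ a : a ∈ fixedPoints N X) ⟨y, hy⟩)
  have hNfix : ∀ ν ∈ N, ν • x0 = x0 → ν = 1 := fun ν hν h => eq_of_smul_eq_smul (α := X) fun a => by
    obtain ⟨⟨μ, hμ⟩, rfl⟩ := exists_smul_eq N x0 a
    rw [one_smul]
    show ν • μ • x0 = μ • x0
    rw [← mul_smul, hNc ν hν μ hμ, mul_smul, h]
  have hNcard : Nat.card N = p := by
    rw [← hXp]
    refine Nat.card_congr (Equiv.ofBijective (fun ν : N => ν • x0) ⟨fun a b h => ?_, fun a => exists_smul_eq N x0 a⟩)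
    have h1 : (b⁻¹ * a : N) • x0 = x0 := by
      show (b⁻¹ * a) • x0 = x0
      rw [mul_smul, show a • x0 = b • x0 from h, inv_smul_smul]
    exact (inv_mul_eq_one.1 (Subtype.ext (hNfix _ (b⁻¹ * a).2 h1) : b⁻¹ * a = 1)).symm
  have hsinv : s⁻¹ = s := inv_eq_of_mul_eq_one_right hs2
  have hsx : s • x0 = x0 := hsH
  -- `s` inverts `N`
  let K : Subgroup N :=
    { carrier := {ν | s * ν.1 * s⁻¹ = ν.1}
      one_mem' := by simp
      mul_mem' := fun {a b} (ha : s * a.1 * s⁻¹ = a.1) (hb : s * b.1 * s⁻¹ = b.1) => by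
        show s * (a.1 * b.1) * s⁻¹ = a.1 * b.1
        rw [show s * (a.1 * b.1) * s⁻¹ = (s * a.1 * s⁻¹) * (s * b.1 * s⁻¹) by group, ha, hb]
      inv_mem' := fun {a} (ha : s * a.1 * s⁻¹ = a.1) => by
        show s * a.1⁻¹ * s⁻¹ = a.1⁻¹
        rw [show s * a.1⁻¹ * s⁻¹ = (s * a.1 * s⁻¹)⁻¹ by group, ha] }
  have hKbot : K = ⊥ := by
    haveI : Fact (Nat.card N).Prime := ⟨hNcard ▸ F.base.prime⟩
    refine K.eq_bot_or_eq_top_of_prime_card.resolve_right fun ht => hs1 ?_
    refine eq_of_smul_eq_smul (α := X) fun a => ?_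
    obtain ⟨⟨μ, hμ⟩, rfl⟩ := exists_smul_eq N x0 a
    rw [one_smul]
    show s • μ • x0 = μ • x0
    have h : s * μ * s⁻¹ = μ := ht.ge (mem_top ⟨μ, hμ⟩)
    rw [← mul_smul, mul_inv_eq_iff_eq_mul.1 h, mul_smul, hsx]
  have hinv : ∀ μ ∈ N, s * μ * s⁻¹ = μ⁻¹ := fun μ hμ => by
    have hμ' : s * μ * s⁻¹ ∈ N := hNn.conj_mem μ hμ s
    have hK : (⟨μ * (s * μ * s⁻¹), mul_mem hμ hμ'⟩ : N) ∈ K := by
      show s * (μ * (s * μ * s⁻¹)) * s⁻¹ = μ * (s * μ * s⁻¹)
      rw [show s * (μ * (s * μ * s⁻¹)) * s⁻¹ = (s * μ * s⁻¹) * ((s * s) * μ * (s * s)⁻¹) by group, hs2,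
        one_mul, inv_one, mul_one, hNc _ hμ' μ hμ]
    rw [hKbot, mem_bot] at hK
    exact eq_inv_of_mul_eq_one_right (congrArg Subtype.val hK)
  have hfix : ∀ a : X, s • a = a → a = x0 := by
    intro a ha
    obtain ⟨⟨μ, hμ⟩, rfl⟩ := exists_smul_eq N x0 a
    change s • μ • x0 = μ • x0 at ha
    rw [← mul_smul, mul_inv_eq_iff_eq_mul.1 (hinv μ hμ), mul_smul, hsx] at ha
    have h : (μ * μ) • x0 = x0 := by
      conv_lhs => rw [mul_smul, ← ha, smul_inv_smul]
    have hμ2 := hNfix _ (mul_mem hμ hμ) h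
    have h1 : orderOf (⟨μ, hμ⟩ : N) ∣ 2 := orderOf_dvd_of_pow_eq_one (Subtype.ext (by
      rw [SubmonoidClass.coe_pow, pow_two]; exact hμ2))
    have h2 : orderOf (⟨μ, hμ⟩ : N) ∣ p := hNcard ▸ orderOf_dvd_natCard _
    have h3 := orderOf_eq_one_iff.1 (Nat.eq_one_of_dvd_coprimes
      ((Nat.coprime_primes Nat.prime_two F.base.prime).2 (by have := F.base.three; omega)) h1 h2)
    show μ • x0 = x0
    rw [show μ = 1 from congrArg Subtype.val h3, one_smul]
  obtain ⟨v, hv⟩ := s.2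
  have hva : ∀ a : A, auto A v a = s.1 a := fun a => by rw [hv]
  have hsq := card_sq_ge F.comm F.sq v.2 (fun a ha => by
    have h := congrArg (fun t : Y => ((t.1 ⟨a, ha⟩ : A) : G)) hs2
    change ((s.1 (s.1 ⟨a, ha⟩) : A) : G) = a at h
    rw [← hv] at h
    exact h)
  have hle : A ⊓ centralizer ({(v : G)} : Set G) ≤ zpowers a0 := by
    rintro a ⟨ha, hac⟩
    by_cases ha1 : a = 1
    · rw [ha1]; exact one_mem _
    have h : s • (⟨⟨a, ha⟩, fun e => ha1 (congrArg Subtype.val e)⟩ : X) = ⟨⟨a, ha⟩, fun e => ha1 (congrArg Subtype.val e)⟩ := by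
      refine Subtype.ext (Subtype.ext ?_)
      show ((s.1 ⟨a, ha⟩ : A) : G) = a
      rw [← hva, auto_apply, mem_centralizer_iff.1 hac v.1 rfl, mul_inv_cancel_right]
    have := congrArg (fun b : X => ((b.1 : A) : G)) (hfix _ h)
    rw [show a = a0 from this]
    exact mem_zpowers a0
  have h2le : Nat.card ↥(A ⊓ centralizer ({(v : G)} : Set G)) ≤ 2 := by
    refine (Nat.le_of_dvd Nat.card_pos (card_dvd_of_le hle)).trans ?_
    rw [Nat.card_zpowers, ha02]
  have h4 : Nat.card A ≤ 4 := hsq.trans (Nat.pow_le_pow_left h2le 2)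
  have := F.card_ge
  omega

theorem mem_centralizer_of_fix (E : Emb p G S A M) {x a : G} (hx : x ∈ normalizer (A : Set G)) (ha : a ∈ A)
    (ha1 : a ≠ 1) (hfix : x * a * x⁻¹ = a) : x ∈ centralizer (A : Set G) := by
  haveI hpf : Fact p.Prime := ⟨E.frame.base.prime⟩
  haveI : IsPretransitive (auto A).range {a : A // a ≠ 1} := ⟨fun a b => by
    obtain ⟨x, hx, hxe⟩ := E.transitive a.1.2 b.1.2 (fun e => a.2 (Subtype.ext e)) (fun e => b.2 (Subtype.ext e))
    exact ⟨⟨auto A ⟨x, hx⟩, ⟨_, rfl⟩⟩, Subtype.ext (Subtype.ext hxe)⟩⟩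
  let y : (auto A).range := ⟨auto A ⟨x, hx⟩, ⟨_, rfl⟩⟩
  by_contra hne
  have hy : y ≠ 1 := fun h => hne ((auto_ker (x := ⟨x, hx⟩)).1 (congrArg Subtype.val h))
  have htop : zpowers y = ⊤ := zpowers_eq_top_of_prime_card E.automizer.2 hy
  let a' : {a : A // a ≠ 1} := ⟨⟨a, ha⟩, fun e => ha1 (congrArg Subtype.val e)⟩
  have hall : ∀ z : (auto A).range, z • a' = a' := by
    intro z
    have hle : zpowers y ≤ stabilizer (auto A).range a' := zpowers_le.2 (Subtype.ext (Subtype.ext hfix))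
    exact hle (htop.ge (mem_top z))
  refine hne (mem_centralizer_iff.2 fun b hb => ?_)
  by_cases hb1 : b = 1
  · rw [hb1, one_mul, mul_one]
  obtain ⟨z, hz⟩ := exists_smul_eq (auto A).range a' (⟨⟨b, hb⟩, fun e => hb1 (congrArg Subtype.val e)⟩ : {a : A // a ≠ 1})
  rw [hall z] at hz
  have hba : a = b := congrArg (fun c : {a : A // a ≠ 1} => ((c.1 : A) : G)) hz
  rw [← hba]
  exact (mul_inv_eq_iff_eq_mul.1 hfix).symm

end Emb

end Cfsg.Lib.PPrimeNil
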