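import Cfsg.Agent.PGLCover.Two
import Cfsg.Agent.Components.Cores
import Cfsg.Agent.SolvStruct.ZJFusion
import Cfsg.Agent.Classical.Misc.PSLOver

/-!
Groups all of whose `p'`-subgroups are nilpotent: heredity and forbidden sections.
-/

set_option autoImplicit false
set_option linter.style.haveILetI false

namespace Cfsg.Lib.PPrimeNil

open Subgroup

universe u

/-- every `p'`-subgroup is nilpotent -/
def Hyp (p : ℕ) (G : Type u) [Group G] : Prop :=
  ∀ H : Subgroup G, (Nat.card H).Coprime p → Group.IsNilpotent H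

variable {p : ℕ} {G : Type u} [Group G] [Finite G]

theorem hyp_subgroup (h : Hyp p G) (M : Subgroup G) : Hyp p M := by
  intro H hH
  have e : H ≃* H.map M.subtype := H.equivMapOfInjective M.subtype M.subtype_injective
  haveI := h (H.map M.subtype) (by rwa [card_map_of_injective M.subtype_injective])
  exact Group.nilpotent_of_mulEquiv e.symm

/-- a `p'`-subgroup of a quotient is covered by a `p'`-subgroup -/
theorem exists_cover (hp : p.Prime) {Q : Type u} [Group Q] (f : G →* Q) (hf : Function.Surjective f)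
    (H : Subgroup Q) (hH : (Nat.card H).Coprime p) :
    ∃ K : Subgroup G, (Nat.card K).Coprime p ∧ K.map f = H := by
  classical
  haveI : Fact p.Prime := ⟨hp⟩
  obtain ⟨K, -, hKm⟩ := (Set.toFinite {K : Subgroup G | K.map f = H}).exists_le_minimal
    (map_comap_eq_self_of_surjective hf H)
  have hK : K.map f = H := hKm.1
  refine ⟨K, ?_, hK⟩
  by_contra hcop
  have hpK : p ∣ Nat.card K := by
    by_contra hd
    exact hcop ((hp.coprime_iff_not_dvd.2 hd).symm)
  let g : K →* H := (f.comp K.subtype).codRestrict H fun k => hK.le ⟨k, k.2, rfl⟩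
  have hg : Function.Surjective g := by
    rintro ⟨y, hy⟩
    obtain ⟨x, hx, rfl⟩ := hK.ge hy
    exact ⟨⟨x, hx⟩, rfl⟩
  obtain ⟨P⟩ := (inferInstance : Nonempty (Sylow p K))
  haveI : Finite H := Finite.of_surjective g hg
  have hPker : (P : Subgroup K) ≤ g.ker := by
    intro x hx
    obtain ⟨k, hk⟩ := P.2 ⟨x, hx⟩
    have hxk : x ^ p ^ k = 1 := congrArg Subtype.val hk
    refine g.mem_ker.2 (orderOf_eq_one_iff.1 (Nat.eq_one_of_dvd_coprimes (Nat.Coprime.pow_right k hH)
      (orderOf_dvd_natCard (g x)) (orderOf_dvd_of_pow_eq_one (by rw [← map_pow, hxk, map_one]))))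
  -- a subgroup of `K` mapping onto `H` is everything
  have hmin : ∀ Y : Subgroup K, Y.map g = ⊤ → Y = ⊤ := by
    intro Y hY
    have h1 : (Y.map K.subtype).map f = H := by
      refine le_antisymm ?_ fun y hy => ?_
      · rintro _ ⟨_, ⟨x, -, rfl⟩, rfl⟩
        exact hK.le ⟨x, x.2, rfl⟩
      · obtain ⟨x, hx, he⟩ := hY.ge (mem_top (⟨y, hy⟩ : H))
        exact ⟨x, ⟨x, hx, rfl⟩, congrArg Subtype.val he⟩
    rw [eq_top_iff]
    intro x _
    obtain ⟨y, hy, hye⟩ := hKm.2 h1 (map_subtype_le Y) x.2
    exact (show y = x from Subtype.ext hye) ▸ hy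
  -- `P` is normal
  haveI hkn : g.ker.Normal := inferInstance
  have hnorm : normalizer ((P : Subgroup K) : Set K) = ⊤ := by
    refine hmin _ (eq_top_iff.2 fun y _ => ?_)
    obtain ⟨x, rfl⟩ := hg y
    have hF := Sylow.normalizer_sup_eq_top (P.subtype hPker) (N := g.ker)
    rw [show ((P.subtype hPker : Sylow p g.ker) : Subgroup g.ker).map g.ker.subtype = (P : Subgroup K) from
      map_subgroupOf_eq_of_le hPker] at hF
    obtain ⟨a, ha, b, hb, rfl⟩ := mem_sup_of_normal_right.1 (hF.ge (mem_top x))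
    exact ⟨a, ha, by rw [map_mul, g.mem_ker.1 hb, mul_one]⟩
  haveI : (P : Subgroup K).Normal := normalizer_eq_top_iff.1 hnorm
  obtain ⟨C, hC⟩ := Subgroup.exists_left_complement'_of_coprime P.card_coprime_index
  have hCtop : C = ⊤ := by
    refine hmin C (eq_top_iff.2 fun y _ => ?_)
    obtain ⟨x, rfl⟩ := hg y
    obtain ⟨⟨c, q⟩, he, -⟩ := hC.existsUnique x
    refine ⟨c, c.2, ?_⟩
    rw [← show (c : K) * q = x from he, map_mul, g.mem_ker.1 (hPker q.2), mul_one]
  have hP1 : (P : Subgroup K) = ⊥ := by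
    have := hC.disjoint
    rw [hCtop, disjoint_comm] at this
    exact disjoint_top.1 this
  exact P.ne_bot_of_dvd_card hpK hP1

theorem hyp_of_surjective (hp : p.Prime) (h : Hyp p G) {Q : Type u} [Group Q] (f : G →* Q)
    (hf : Function.Surjective f) : Hyp p Q := by
  intro H hH
  obtain ⟨K, hK, hKH⟩ := exists_cover hp f hf H hH
  haveI := h K hK
  subst hKH
  exact Group.nilpotent_of_surjective (f.subgroupMap K) (f.subgroupMap_surjective K)

theorem comm_of_coprime (h : Hyp p G) {H : Subgroup G} (hH : (Nat.card H).Coprime p) {a b : G}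
    (ha : a ∈ H) (hb : b ∈ H) (hab : (orderOf a).Coprime (orderOf b)) : a * b = b * a :=
  haveI := h H hH
  Cfsg.Lib.PGLCover.commute_of_coprime ha hb hab

theorem not_isNilpotent_perm_four : ¬ Group.IsNilpotent (Equiv.Perm (Fin 4)) := by
  intro hn
  haveI : Group.IsNilpotent (⊤ : Subgroup (Equiv.Perm (Fin 4))) := Group.isNilpotent_top.mpr hn
  set a : Equiv.Perm (Fin 4) := Equiv.swap 0 1
  set b : Equiv.Perm (Fin 4) := Equiv.swap 0 1 * Equiv.swap 1 2
  have ha : orderOf a = 2 := orderOf_eq_prime (by decide) (by decide)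
  haveI : Fact (Nat.Prime 3) := ⟨Nat.prime_three⟩
  have hb : orderOf b = 3 := orderOf_eq_prime (by decide) (by decide)
  have := Cfsg.Lib.PGLCover.commute_of_coprime (K := (⊤ : Subgroup (Equiv.Perm (Fin 4)))) (mem_top a) (mem_top b)
    (by rw [ha, hb]; norm_num)
  exact absurd this.eq (by decide)

theorem s4_free (hp : p.Prime) (hp3 : 3 < p) (h : Hyp p G) : ¬ Cfsg.Involves (Equiv.Perm (Fin 4)) G := by
  rintro ⟨K, R, hR, ⟨e⟩⟩
  haveI := hR
  have h1 : (Nat.card (⊤ : Subgroup (K ⧸ R.subgroupOf K))).Coprime p := by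
    rw [card_top, Nat.card_congr e.toEquiv, Nat.card_perm, Nat.card_fin]
    refine (hp.coprime_iff_not_dvd.2 fun hd => ?_).symm
    have : p ≤ 4 := hp.dvd_factorial.1 hd
    interval_cases p
    exact absurd hp (by decide)
  haveI := hyp_of_surjective hp (hyp_subgroup h K) (QuotientGroup.mk' _) (QuotientGroup.mk'_surjective _) ⊤ h1
  haveI : Group.IsNilpotent (K ⧸ R.subgroupOf K) := Group.isNilpotent_top.mp inferInstance
  exact not_isNilpotent_perm_four (Group.nilpotent_of_mulEquiv e)

theorem not_solvable_sl (hp : p.Prime) (hp3 : 3 < p) :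
    haveI : Fact p.Prime := ⟨hp⟩
    ¬ Group.IsSolvable (Matrix.SpecialLinearGroup (Fin 2) (ZMod p)) := by
  haveI : Fact p.Prime := ⟨hp⟩
  intro h
  refine Cfsg.Lib.Classical.PSLOver.not_solvable_psl (K := ZMod p) (by rw [ZMod.card]; omega) ?_
  haveI := h
  infer_instance

/-- a simple group with soluble proper subgroups has no `Qd(p)` -/
theorem qd_free [IsSimpleGroup G] (hns : ¬ Group.IsSolvable G)
    (hprop : ∀ K : Subgroup G, K ≠ ⊤ → Group.IsSolvable K) (hp : p.Prime) (hp3 : 3 < p) :
    haveI : Fact p.Prime := ⟨hp⟩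
    ¬ Cfsg.Involves ↥(Cfsg.qd p) G := by
  haveI : Fact p.Prime := ⟨hp⟩
  refine Cfsg.Lib.SolvStruct.not_involves_qd ?_
  rintro ⟨H, K, hK, ⟨e⟩⟩
  haveI := hK
  refine not_solvable_sl hp hp3 ?_
  by_cases hH : H = ⊤
  · subst hH
    rcases hK.map (⊤ : Subgroup G).subtype (fun g => ⟨⟨g, mem_top g⟩, rfl⟩) |>.eq_bot_or_eq_top with hb | ht
    · exfalso
      have hb' : K.subgroupOf ⊤ = ⊥ := (map_eq_bot_iff_of_injective _ (⊤ : Subgroup G).subtype_injective).1 hb
      -- then `G` has a central involution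
      let φ : G ≃* Matrix.SpecialLinearGroup (Fin 2) (ZMod p) :=
        ((Subgroup.topEquiv.symm.trans QuotientGroup.quotientBot.symm).trans
          (QuotientGroup.quotientMulEquivOfEq hb'.symm)).trans e
      set z : Matrix.SpecialLinearGroup (Fin 2) (ZMod p) := -1 with hz
      have hzc : z ∈ center _ := mem_center_iff.2 fun g => by simp [hz]
      have hz1 : z ≠ 1 := by
        intro h1
        have h2 := congrArg (fun A : Matrix.SpecialLinearGroup (Fin 2) (ZMod p) => (A : Matrix (Fin 2) (Fin 2) (ZMod p)) 0 0) h1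
        simp [hz] at h2
        have h3 : ((2 : ℕ) : ZMod p) = 0 := by push_cast; linear_combination -h2
        have := Nat.le_of_dvd (by norm_num) ((ZMod.natCast_eq_zero_iff 2 p).1 h3)
        omega
      have hw : φ.symm z ∈ center G := mem_center_iff.2 fun g => φ.injective (by
        rw [map_mul, map_mul, φ.apply_symm_apply, mem_center_iff.1 hzc])
      rcases (inferInstance : (center G).Normal).eq_bot_or_eq_top with hc | hc
      · rw [hc, mem_bot] at hw
        exact hz1 (φ.symm.injective (hw.trans (map_one _).symm))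
      · exact hns (Group.isSolvable_of_comm fun a b => mem_center_iff.1 (show b ∈ center G by rw [hc]; exact mem_top b) a)
    · haveI : Subsingleton ((⊤ : Subgroup G) ⧸ K.subgroupOf ⊤) := by
        rw [QuotientGroup.subsingleton_iff]
        rw [map_subgroupOf_eq_of_le le_top] at ht
        rw [ht]
        exact subgroupOf_self ⊤
      haveI := e.toEquiv.symm.subsingleton
      exact Group.isSolvable_of_comm fun a b => Subsingleton.elim _ _
  · haveI := hprop H hH
    haveI : Group.IsSolvable (H ⧸ K.subgroupOf H) := inferInstance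
    exact Group.isSolvable_of_surjective (f := e.toMonoidHom) e.surjective

end Cfsg.Lib.PPrimeNil
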