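import Cfsg.Agent.Coprime.Fitting
import Cfsg.Agent.Coprime.Generation
import Cfsg.Agent.Components.Cores
import Cfsg.Agent.Coprime.SolvableBasics
import Cfsg.Prelude.Def_TwoFusion

/-!
An abelian strongly closed 2-subgroup of a soluble group: `X = O(X) N_X(B)`.
-/

set_option autoImplicit false
set_option linter.style.haveILetI false

namespace Cfsg.Lib.PPrimeNil

open Subgroup

universe u

variable {X : Type u} [Group X] [Finite X]

theorem normal_of_closed [Group.IsSolvable X] (hO : Cfsg.pPrimeCore 2 X = ⊥) (T : Sylow 2 X) (B : Subgroup X)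
    (hB : B ≤ (T : Subgroup X)) (hBc : ∀ a ∈ B, ∀ b ∈ B, a * b = b * a)
    (hcl : Cfsg.IsStronglyClosed B (T : Subgroup X)) : B.Normal := by
  haveI : Fact (Nat.Prime 2) := ⟨Nat.prime_two⟩
  set Q := Cfsg.pCore 2 X with hQdef
  haveI hQn : Q.Normal := Cfsg.Lib.Components.pCore_normal' 2
  have hQT : Q ≤ (T : Subgroup X) := Cfsg.Lib.Coprime.pCore_le_sylow 2 T
  have hCQ : centralizer (Q : Set X) ≤ Q := Cfsg.Lib.Coprime.centralizer_pCore_le 2 hO
  set B0 := B ⊓ Q with hB0def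
  have hB0n : B0.Normal := ⟨fun b hb g => ⟨hcl.2 b hb.1 g (hQT (hQn.conj_mem b hb.2 g)), hQn.conj_mem b hb.2 g⟩⟩
  -- the stabilizer of the series `1 ≤ B0 ≤ Q`
  let K : Subgroup X :=
    { carrier := {x | (∀ b ∈ B0, x * b = b * x) ∧ ∀ q ∈ Q, x * q * x⁻¹ * q⁻¹ ∈ B0}
      one_mem' := ⟨fun b _ => by group, fun q _ => by simp⟩
      mul_mem' := by
        rintro x y ⟨hx1, hx2⟩ ⟨hy1, hy2⟩
        refine ⟨fun b hb => by rw [mul_assoc, hy1 b hb, ← mul_assoc, hx1 b hb, mul_assoc], fun q hq => ?_⟩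
        rw [show x * y * q * (x * y)⁻¹ * q⁻¹ =
          x * (y * q * y⁻¹) * x⁻¹ * (y * q * y⁻¹)⁻¹ * (y * q * y⁻¹ * q⁻¹) by group]
        exact mul_mem (hx2 _ (hQn.conj_mem q hq y)) (hy2 q hq)
      inv_mem' := by
        rintro x ⟨hx1, hx2⟩
        refine ⟨fun b hb => ?_, fun q hq => ?_⟩
        · exact ((Commute.inv_left (show Commute x b from hx1 b hb))).eq
        · have h := hx2 _ (hQn.conj_mem q hq x⁻¹)
          rw [show x * (x⁻¹ * q * x⁻¹⁻¹) * x⁻¹ * (x⁻¹ * q * x⁻¹⁻¹)⁻¹ =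
            (x⁻¹ * q * x⁻¹⁻¹ * q⁻¹)⁻¹ by group] at h
          exact inv_mem_iff.1 h }
  haveI hKn : K.Normal := by
    refine ⟨fun x hx g => ⟨fun b hb => ?_, fun q hq => ?_⟩⟩
    · have h := hx.1 _ (hB0n.conj_mem b hb g⁻¹)
      calc g * x * g⁻¹ * b = g * (x * (g⁻¹ * b * g⁻¹⁻¹)) * g⁻¹ := by group
        _ = g * ((g⁻¹ * b * g⁻¹⁻¹) * x) * g⁻¹ := by rw [h]
        _ = b * (g * x * g⁻¹) := by group
    · have h := hB0n.conj_mem _ (hx.2 _ (hQn.conj_mem q hq g⁻¹)) g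
      convert h using 1
      group
  have hBK : B ≤ K := by
    intro b hb
    refine ⟨fun c hc => hBc b hb c hc.1, ?_⟩
    intro q hq
    refine mem_inf.2 ⟨?_, mul_mem (hQn.conj_mem q hq b) (inv_mem hq)⟩
    have h := hcl.2 b⁻¹ (inv_mem hb) q (mul_mem (mul_mem (hQT hq) (inv_mem (hB hb))) (inv_mem (hQT hq)))
    rw [show b * q * b⁻¹ * q⁻¹ = b * (q * b⁻¹ * q⁻¹) by group]
    exact mul_mem hb h
  have hKp : IsPGroup 2 K := by
    rintro ⟨x, hx⟩
    obtain ⟨k, r, hr, hn⟩ : ∃ k r : ℕ, ¬ 2 ∣ r ∧ orderOf x = 2 ^ k * r := by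
      obtain ⟨k, r, hr, hn⟩ := Nat.exists_eq_pow_mul_and_not_dvd (orderOf_pos x).ne' 2 (by norm_num)
      exact ⟨k, r, hr, hn⟩
    refine ⟨k, Subtype.ext ?_⟩
    show x ^ 2 ^ k = 1
    have hyK : x ^ 2 ^ k ∈ K := pow_mem hx _
    set y := x ^ 2 ^ k with hy
    have hyr : y ^ r = 1 := by rw [hy, ← pow_mul, ← hn, pow_orderOf_eq_one]
    have hyr' : (orderOf y).Coprime 2 :=
      ((Nat.prime_two.coprime_iff_not_dvd.2 hr).symm).coprime_dvd_left (orderOf_dvd_of_pow_eq_one hyr)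
    have hyC : y ∈ centralizer (Q : Set X) := mem_centralizer_iff.2 fun q hq => by
      set c := y * q * y⁻¹ * q⁻¹ with hc
      have hcB : c ∈ B0 := hyK.2 q hq
      have hpow : ∀ n : ℕ, y ^ n * q * (y ^ n)⁻¹ = c ^ n * q := by
        intro n
        induction n with
        | zero => simp
        | succ n ih =>
          have hcy : y * c ^ n = c ^ n * y := ((show Commute y c from hyK.1 c hcB).pow_right n).eq
          rw [pow_succ' y, pow_succ c, show y * y ^ n * q * (y * y ^ n)⁻¹ = y * (y ^ n * q * (y ^ n)⁻¹) * y⁻¹ by group,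
            ih, show y * (c ^ n * q) * y⁻¹ = y * c ^ n * q * y⁻¹ by group, hcy, hc]
          group
      have h1 := hpow (orderOf y)
      rw [pow_orderOf_eq_one, inv_one, one_mul, mul_one] at h1
      have h2 : c ^ orderOf y = 1 := mul_eq_right.1 h1.symm
      obtain ⟨j, hj⟩ := T.2 ⟨c, hB hcB.1⟩
      have h3 : c = 1 := orderOf_eq_one_iff.1 (Nat.eq_one_of_dvd_coprimes (Nat.Coprime.pow_right j hyr')
        (orderOf_dvd_of_pow_eq_one h2) (orderOf_dvd_of_pow_eq_one (congrArg Subtype.val hj)))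
      rw [hc] at h3
      calc q * y = (y * q * y⁻¹ * q⁻¹) * (q * y) := by rw [h3, one_mul]
        _ = y * q := by group
    obtain ⟨j, hj⟩ := Cfsg.Lib.Components.isPGroup_pCore (G := X) 2 ⟨y, hCQ hyC⟩
    exact orderOf_eq_one_iff.1 (Nat.eq_one_of_dvd_coprimes (Nat.Coprime.pow_right j hyr')
      dvd_rfl (orderOf_dvd_of_pow_eq_one (congrArg Subtype.val hj)))
  have hBQ : B ≤ Q := hBK.trans (Cfsg.Lib.Components.le_pCore hKp)
  rwa [hB0def, inf_eq_left.2 hBQ] at hB0n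

theorem closed_frattini [Group.IsSolvable X] (T : Sylow 2 X) (B : Subgroup X)
    (hB : B ≤ (T : Subgroup X)) (hBc : ∀ a ∈ B, ∀ b ∈ B, a * b = b * a)
    (hcl : Cfsg.IsStronglyClosed B (T : Subgroup X)) :
    Cfsg.pPrimeCore 2 X ⊔ normalizer (B : Set X) = ⊤ := by
  haveI : Fact (Nat.Prime 2) := ⟨Nat.prime_two⟩
  set O := Cfsg.pPrimeCore 2 X with hOdef
  haveI hOn : O.Normal := Cfsg.Lib.Components.pPrimeCore_normal' 2
  set π := QuotientGroup.mk' O
  have hπs : Function.Surjective π := QuotientGroup.mk'_surjective O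
  have hOc : (Nat.card O).Coprime 2 := Cfsg.Lib.Components.coprime_card_pPrimeCore 2
  have hcl' : Cfsg.IsStronglyClosed (B.map π) ((T.mapSurjective hπs : Sylow 2 (X ⧸ O)) : Subgroup (X ⧸ O)) := by
    refine ⟨map_mono hB, ?_⟩
    rintro _ ⟨b, hb, rfl⟩ gb hgb
    obtain ⟨g, rfl⟩ := hπs gb
    rw [← map_inv, ← map_mul, ← map_mul] at hgb ⊢
    have hgb' : g * b * g⁻¹ ∈ O ⊔ (T : Subgroup X) := by
      obtain ⟨t, ht, hte⟩ := hgb
      have h1 : (g * b * g⁻¹) * t⁻¹ ∈ O := by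
        rw [← QuotientGroup.eq_one_iff]
        show π ((g * b * g⁻¹) * t⁻¹) = 1
        rw [map_mul, map_inv, hte, mul_inv_cancel]
      exact (inv_mul_cancel_right (g * b * g⁻¹) t) ▸ mul_mem (mem_sup_left h1) (mem_sup_right ht)
    set M := O ⊔ (T : Subgroup X)
    obtain ⟨R, hR⟩ := (((T.2.to_le hB).map (MulAut.conj g).toMonoidHom).to_le
      (inf_le_left (b := M))).comap_subtype (K := M) |>.exists_le_sylow
    obtain ⟨m, hm⟩ := MulAction.exists_smul_eq M R (T.subtype le_sup_right)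
    have hbR : (⟨g * b * g⁻¹, hgb'⟩ : M) ∈ (R : Subgroup M) := hR ⟨mem_map_of_mem _ hb, hgb'⟩
    have h2 : m * (⟨g * b * g⁻¹, hgb'⟩ : M) * m⁻¹ ∈ ((m • R : Sylow 2 M) : Subgroup M) :=
      Subgroup.smul_mem_pointwise_smul (a := MulAut.conj m) _ _ hbR
    rw [hm] at h2
    have h2' : (m : X) * (g * b * g⁻¹) * (m : X)⁻¹ ∈ (T : Subgroup X) := h2
    have h3 : ((m : X) * g) * b * ((m : X) * g)⁻¹ ∈ B :=
      hcl.2 b hb _ (by rwa [show ((m : X) * g) * b * ((m : X) * g)⁻¹ = (m : X) * (g * b * g⁻¹) * (m : X)⁻¹ by group])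
    obtain ⟨o, ho, t, ht, hmt⟩ := mem_sup_of_normal_left.1 m.2
    have h4 : (m : X)⁻¹ * (((m : X) * g) * b * ((m : X) * g)⁻¹) * (m : X) ∈ B ⊔ O := by
      rw [← hmt]
      have e : (o * t)⁻¹ * (((o * t) * g) * b * ((o * t) * g)⁻¹) * (o * t) =
        t⁻¹ * (o⁻¹ * (((o * t) * g) * b * ((o * t) * g)⁻¹) * o) * t := by group
      rw [e]
      have hTN : ∀ y ∈ B ⊔ O, t⁻¹ * y * t ∈ B ⊔ O := by
        intro y hy
        obtain ⟨b1, hb1, o1, ho1, rfl⟩ := mem_sup_of_normal_right.1 hy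
        rw [show t⁻¹ * (b1 * o1) * t = (t⁻¹ * b1 * t⁻¹⁻¹) * (t⁻¹ * o1 * t⁻¹⁻¹) by group]
        exact mul_mem (mem_sup_left (hcl.2 b1 hb1 t⁻¹ (mul_mem (mul_mem (inv_mem ht) (hB hb1)) (inv_mem (inv_mem ht)))))
          (mem_sup_right (hOn.conj_mem o1 ho1 _))
      refine hTN _ ?_
      rw [hmt]
      exact mul_mem (mul_mem (inv_mem (mem_sup_right ho)) (mem_sup_left h3)) (mem_sup_right ho)
    rw [show (m : X)⁻¹ * (((m : X) * g) * b * ((m : X) * g)⁻¹) * (m : X) = g * b * g⁻¹ by group] at h4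
    obtain ⟨b1, hb1, o1, ho1, he⟩ := mem_sup_of_normal_right.1 h4
    refine ⟨b1, hb1, ?_⟩
    show π b1 = π (g * b * g⁻¹)
    rw [← he, map_mul, show π o1 = 1 from (QuotientGroup.eq_one_iff o1).2 ho1, mul_one]
  haveI hn : (B.map π).Normal := normal_of_closed (Cfsg.Lib.Coprime.pPrimeCore_quotient_eq_bot)
    (T.mapSurjective hπs) (B.map π) (map_mono hB) (by
      rintro _ ⟨a, ha, rfl⟩ _ ⟨b, hb, rfl⟩
      rw [← map_mul, ← map_mul, hBc a ha b hb]) hcl'
  haveI hM : (B ⊔ O).Normal := by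
    have h := hn.comap π
    rwa [comap_map_eq, show π.ker = O from QuotientGroup.ker_mk' O] at h
  have hidx : ¬ 2 ∣ (B.subgroupOf (B ⊔ O)).index := by
    intro hd
    have h1 : B.relIndex (B ⊔ O) ∣ Nat.card O := by
      have hm : Nat.card B * B.relIndex (B ⊔ O) = Nat.card ↥(B ⊔ O) := by
        rw [← relIndex_bot_left B, ← relIndex_bot_left (B ⊔ O), relIndex_mul_relIndex _ _ _ bot_le le_sup_left]
      have h2 := Cfsg.Lib.Components.card_sup_dvd_mul O B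
      rw [sup_comm, ← hm, mul_comm (Nat.card O)] at h2
      exact Nat.dvd_of_mul_dvd_mul_left Nat.card_pos h2
    exact absurd (Nat.eq_one_of_dvd_coprimes hOc (hd.trans h1) dvd_rfl) (by norm_num)
  have hBp : IsPGroup 2 (B.subgroupOf (B ⊔ O)) := (T.2.to_le hB).comap_subtype
  have hF := Sylow.normalizer_sup_eq_top (hBp.toSylow hidx)
  rw [IsPGroup.toSylow_coe, map_subgroupOf_eq_of_le le_sup_left] at hF
  rw [eq_top_iff, ← hF]
  exact sup_le le_sup_right (sup_le (le_trans le_normalizer le_sup_right) le_sup_left)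

end Cfsg.Lib.PPrimeNil
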