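import Cfsg.Agent.SolvStruct.PPrimeNilpotent.Rank
import Cfsg.Agent.S3110
import Cfsg.Agent.PLocal.Constrained
import Cfsg.Agent.InvolCalc.StronglyEmbedded

/-!
The strongly embedded subgroup.
-/

set_option autoImplicit false
set_option linter.style.haveILetI false
set_option linter.unusedSectionVars false

namespace Cfsg.Lib.PPrimeNil

open Subgroup

universe u

variable {p : ℕ} {G : Type u} [Group G] [Finite G]

theorem not_pRankLE_one {B : Subgroup G} {E : Subgroup G} (hEB : E ≤ B)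
    (hc : ∀ a ∈ E, ∀ b ∈ E, a * b = b * a) (hsq : ∀ a ∈ E, a ^ 2 = 1) (h4 : 4 ≤ Nat.card E) :
    ¬ Cfsg.PRankLE 2 1 B := by
  intro h
  have h1 := h (E.subgroupOf B) ⟨⟨fun a b => Subtype.ext (Subtype.ext (hc _ a.2 _ b.2))⟩⟩
    (fun a ha => Subtype.ext (by simpa using hsq a.1 ha))
  rw [Nat.card_congr (subgroupOfEquivOfLe hEB).toEquiv] at h1
  omega

theorem card_sq_ge {A : Subgroup G} (hc : ∀ a ∈ A, ∀ b ∈ A, a * b = b * a) (hsq : ∀ a ∈ A, a ^ 2 = 1)
    {v : G} (hv : v ∈ normalizer (A : Set G)) (hv2 : ∀ a ∈ A, v * (v * a * v⁻¹) * v⁻¹ = a) :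
    Nat.card A ≤ Nat.card ↥(A ⊓ centralizer ({v} : Set G)) ^ 2 := by
  haveI : IsMulCommutative A := ⟨⟨fun a b => Subtype.ext (hc _ a.2 _ b.2)⟩⟩
  let f : A →* A :=
    { toFun := fun a => ⟨a.1 * (v * a.1 * v⁻¹), mul_mem a.2 ((mem_normalizer_iff.1 hv _).1 a.2)⟩
      map_one' := Subtype.ext (by simp)
      map_mul' := fun a b => Subtype.ext (by
        show (a.1 * b.1) * (v * (a.1 * b.1) * v⁻¹) = a.1 * (v * a.1 * v⁻¹) * (b.1 * (v * b.1 * v⁻¹))
        have h := hc _ b.2 _ ((mem_normalizer_iff.1 hv _).1 a.2)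
        calc (a.1 * b.1) * (v * (a.1 * b.1) * v⁻¹) = a.1 * (b.1 * (v * a.1 * v⁻¹)) * (v * b.1 * v⁻¹) := by group
          _ = a.1 * ((v * a.1 * v⁻¹) * b.1) * (v * b.1 * v⁻¹) := by rw [h]
          _ = _ := by group) }
  set B := (A ⊓ centralizer ({v} : Set G)).subgroupOf A
  have hker : f.ker ≤ B := by
    intro a ha
    have h : a.1 * (v * a.1 * v⁻¹) = 1 := congrArg Subtype.val ha
    have h1 : v * a.1 * v⁻¹ = a.1 := by
      have h2 : v * a.1 * v⁻¹ = a.1⁻¹ := eq_inv_of_mul_eq_one_right h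
      rw [h2]
      exact inv_eq_of_mul_eq_one_right (by rw [← pow_two, hsq _ a.2])
    exact ⟨a.2, mem_centralizer_iff.2 (by rintro _ rfl; exact mul_inv_eq_iff_eq_mul.1 h1)⟩
  have hran : f.range ≤ B := by
    rintro _ ⟨a, rfl⟩
    refine ⟨(f a).2, mem_centralizer_iff.2 ?_⟩
    intro y hy
    rw [show y = v from hy]
    show v * (a.1 * (v * a.1 * v⁻¹)) = a.1 * (v * a.1 * v⁻¹) * v
    calc v * (a.1 * (v * a.1 * v⁻¹)) = (v * a.1 * v⁻¹) * (v * (v * a.1 * v⁻¹) * v⁻¹) * v := by group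
      _ = (v * a.1 * v⁻¹) * a.1 * v := by rw [hv2 _ a.2]
      _ = _ := by rw [hc _ ((mem_normalizer_iff.1 hv _).1 a.2) _ a.2]
  have hB : Nat.card B = Nat.card ↥(A ⊓ centralizer ({v} : Set G)) :=
    Nat.card_congr (subgroupOfEquivOfLe inf_le_left).toEquiv
  rw [← f.ker.card_mul_index, Subgroup.index_ker, ← hB, pow_two]
  exact Nat.mul_le_mul (Nat.le_of_dvd Nat.card_pos (card_dvd_of_le hker))
    (Nat.le_of_dvd Nat.card_pos (card_dvd_of_le hran))

theorem solvable_constrained {X : Subgroup G} [Group.IsSolvable X] : Cfsg.IsPConstrained 2 X := by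
  haveI : Fact (Nat.Prime 2) := ⟨Nat.prime_two⟩
  rw [Cfsg.Lib.Constraint.isPConstrained_iff]
  exact Cfsg.Lib.Coprime.centralizer_pCore_le 2 Cfsg.Lib.Coprime.pPrimeCore_quotient_eq_bot

namespace Frame

variable {S : Sylow 2 G} {A : Subgroup G}

/-- conjugates of elements of `A` inside a conjugate Sylow subgroup -/
theorem closed_conj (F : Frame p G S A) {a g h : G} (ha : a ∈ A) (hin : h⁻¹ * (g * a * g⁻¹) * h ∈ (S : Subgroup G)) :
    h⁻¹ * (g * a * g⁻¹) * h ∈ A := by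
  have e : h⁻¹ * (g * a * g⁻¹) * h = (h⁻¹ * g) * a * (h⁻¹ * g)⁻¹ := by group
  rw [e] at hin ⊢
  exact F.closed.2 a ha _ hin

theorem four_le (F : Frame p G S A) {v : G} (hv : v ∈ normalizer (A : Set G)) (hv2 : v ^ 2 = 1) :
    4 ≤ Nat.card ↥(A ⊓ centralizer ({v} : Set G)) := by
  have h := card_sq_ge F.comm F.sq hv fun a _ => by
    rw [show v * (v * a * v⁻¹) * v⁻¹ = (v * v) * a * (v * v)⁻¹ by group, ← pow_two, hv2, one_mul, inv_one, mul_one]
  obtain ⟨k, hk⟩ := IsPGroup.iff_card.1 (F.isPGroup.to_le (inf_le_left (b := centralizer ({v} : Set G))))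
  have h8 := F.card_ge
  rw [hk] at h ⊢
  rcases k with _ | _ | k
  · norm_num at h; omega
  · norm_num at h; omega
  · exact (show (4 : ℕ) = 2 ^ 2 by norm_num).le.trans (Nat.pow_le_pow_right (by norm_num) (by omega))

theorem exists_common (F : Frame p G S A) (S' : Sylow 2 G) :
    ∃ W : Subgroup G, Odd (Nat.card ↥W) ∧
      ∀ B : Subgroup G, B ≤ (S' : Subgroup G) → ¬ Cfsg.PRankLE 2 1 ↥B →
        W = (⨆ b : {b : G // b ∈ B ∧ b ≠ 1}, Cfsg.centralizerPPrimeCore 2 (b : G)) ∧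
        normalizer (B : Set G) ≤ normalizer (W : Set G) := by
  haveI : Fact (Nat.Prime 2) := ⟨Nat.prime_two⟩
  have h2c : ∀ T : Subgroup G, IsPGroup 2 T → T ≠ ⊥ → Cfsg.IsPConstrained 2 ↥(normalizer (T : Set G)) := by
    intro T hT hne
    haveI := hT.isNilpotent
    haveI : Group.IsSolvable T := inferInstance
    haveI := F.base.proper _ (F.base.ne_top hne inferInstance)
    exact solvable_constrained
  haveI : Group.IsNilpotent (S : Subgroup G) := S.2.isNilpotent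
  have hAS : (A.subgroupOf (S : Subgroup G)).Normal :=
    (normal_subgroupOf_iff_le_normalizer F.le).2 F.le_normalizer_sylow
  obtain ⟨A', hA'⟩ := (Set.toFinite {M : Subgroup (S : Subgroup G) | M.Normal ∧ IsMulCommutative M ∧
    A.subgroupOf (S : Subgroup G) ≤ M}).exists_maximal
    ⟨_, hAS, ⟨⟨fun a b => Subtype.ext (Subtype.ext (F.comm _ a.2 _ b.2))⟩⟩, le_rfl⟩
  haveI := hA'.1.1
  haveI := hA'.1.2.1
  have hAC : centralizer (A' : Set (S : Subgroup G)) = A' :=
    Cfsg.Lib.Coprime.centralizer_eq_of_maximal_abelian A' fun M hMn hMc hle =>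
      le_antisymm (hA'.2 ⟨hMn, hMc, hA'.1.2.2.trans hle⟩ hle) hle
  refine Cfsg.Agent.S3110.result h2c S A' hA'.1.1 hA'.1.2.1 hAC (fun h => ?_) S'
  have h1 := h ((A.subgroupOf (S : Subgroup G)).subgroupOf A')
    ⟨⟨fun a b => Subtype.ext (Subtype.ext (Subtype.ext (F.comm _ a.2 _ b.2)))⟩⟩
    (fun a ha => Subtype.ext (Subtype.ext (by simpa using F.sq a.1.1 ha)))
  rw [Nat.card_congr (subgroupOfEquivOfLe hA'.1.2.2).toEquiv, Nat.card_congr (subgroupOfEquivOfLe F.le).toEquiv] at h1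
  have := F.card_ge
  omega

/-- the local analysis of an involution of `S` -/
theorem local_data (F : Frame p G S A) {v : G} (hvS : v ∈ (S : Subgroup G)) (hv : orderOf v = 2) :
    ∃ (g : G) (B' : Subgroup G), A ⊓ centralizer ({v} : Set G) ≤ B' ∧ B' ≤ A.map (MulAut.conj g).toMonoidHom ∧
      B' ≤ centralizer ({v} : Set G) ∧ B' ≤ ((g • S : Sylow 2 G) : Subgroup G) ∧
      A ⊓ centralizer ({v} : Set G) ≤ ((g • S : Sylow 2 G) : Subgroup G) ∧
      centralizer ({v} : Set G) ≤ Cfsg.centralizerPPrimeCore 2 v ⊔ normalizer (B' : Set G) := by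
  haveI : Fact (Nat.Prime 2) := ⟨Nat.prime_two⟩
  have hv1 : v ≠ 1 := fun e => by simp [e] at hv
  set X := centralizer ({v} : Set G)
  haveI := F.base.proper X (F.base.centralizer_ne_top hv1)
  set B := A ⊓ X
  obtain ⟨T, hT⟩ := ((F.isPGroup.to_le (inf_le_left (b := X))).comap_subtype (K := X)).exists_le_sylow
  obtain ⟨P, hP⟩ := (T.2.map X.subtype).exists_le_sylow
  obtain ⟨g, hg⟩ := MulAction.exists_smul_eq G S P
  have hTS : ∀ t : X, t ∈ (T : Subgroup X) → g⁻¹ * t.1 * g ∈ (S : Subgroup G) := by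
    intro t ht
    have h : t.1 ∈ ((g • S : Sylow 2 G) : Subgroup G) := by rw [hg]; exact hP ⟨t, ht, rfl⟩
    rw [Sylow.coe_subgroup_smul, Subgroup.mem_pointwise_smul_iff_inv_smul_mem] at h
    simpa [mul_assoc] using h
  set Ag := A.map (MulAut.conj g).toMonoidHom with hAg
  have hmemAg : ∀ y : G, y ∈ Ag ↔ g⁻¹ * y * g ∈ A := fun y =>
    Cfsg.Lib.StrongEmb.mem_conj_iff
  set C := Ag.subgroupOf X ⊓ (T : Subgroup X) with hC
  have hcl : Cfsg.IsStronglyClosed C (T : Subgroup X) := by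
    refine ⟨inf_le_right, fun c hc x hx => ⟨?_, hx⟩⟩
    have e : g⁻¹ * x.1 * g * (g⁻¹ * c.1 * g) * (g⁻¹ * x.1 * g)⁻¹ = g⁻¹ * (x.1 * c.1 * x.1⁻¹) * g := by group
    have h := F.closed.2 _ ((hmemAg _).1 hc.1) (g⁻¹ * x.1 * g) (e.symm ▸ hTS _ hx)
    exact (hmemAg _).2 (e ▸ h)
  have hfr := closed_frattini T C inf_le_right (fun a ha b hb => Subtype.ext (by
    have h := F.comm _ ((hmemAg _).1 ha.1) _ ((hmemAg _).1 hb.1)
    have h1 : g⁻¹ * (a.1 * b.1) * g = g⁻¹ * (b.1 * a.1) * g := by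
      calc g⁻¹ * (a.1 * b.1) * g = (g⁻¹ * a.1 * g) * (g⁻¹ * b.1 * g) := by group
        _ = (g⁻¹ * b.1 * g) * (g⁻¹ * a.1 * g) := h
        _ = _ := by group
    exact mul_left_cancel (mul_right_cancel h1))) hcl
  refine ⟨g, C.map X.subtype, ?_, ?_, map_subtype_le _, ?_, ?_, ?_⟩
  · intro b hb
    refine ⟨⟨b, hb.2⟩, ⟨?_, hT hb⟩, rfl⟩
    refine (hmemAg b).2 ?_
    have h := F.closed.2 b hb.1 g⁻¹ (by rw [inv_inv]; exact hTS _ (hT (x := ⟨b, hb.2⟩) hb))
    rwa [inv_inv] at h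
  · rintro _ ⟨c, hc, rfl⟩
    exact hc.1
  · rw [hg]
    exact (map_mono inf_le_right).trans hP
  · rw [hg]
    intro b hb
    exact hP ⟨⟨b, hb.2⟩, hT hb, rfl⟩
  · intro x hx
    haveI : (Cfsg.pPrimeCore 2 X).Normal := Cfsg.Lib.Components.pPrimeCore_normal' 2
    obtain ⟨o, ho, n, hn, he⟩ := (mem_sup_of_normal_left).1
      (hfr.ge (mem_top (⟨x, hx⟩ : X)))
    rw [show x = (o : G) * n from (congrArg Subtype.val he).symm]
    exact mul_mem (mem_sup_left ⟨o, ho, rfl⟩) (mem_sup_right (le_normalizer_map X.subtype ⟨n, hn, rfl⟩))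

theorem exists_embedded (F : Frame p G S A) : ∃ M : Subgroup G, Cfsg.IsStronglyEmbedded M ∧
    (S : Subgroup G) ≤ M ∧ normalizer (A : Set G) ≤ M ∧
    ∀ v ∈ (S : Subgroup G), orderOf v = 2 → centralizer ({v} : Set G) ≤ M := by
  haveI : Fact (Nat.Prime 2) := ⟨Nat.prime_two⟩
  obtain ⟨W, hWodd, hW⟩ := F.exists_common S
  have hAr : ¬ Cfsg.PRankLE 2 1 A := not_pRankLE_one le_rfl F.comm F.sq (by have := F.card_ge; omega)
  have hSr : ¬ Cfsg.PRankLE 2 1 (S : Subgroup G) :=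
    not_pRankLE_one F.le F.comm F.sq (by have := F.card_ge; omega)
  have hWA : normalizer (A : Set G) ≤ normalizer (W : Set G) := (hW A F.le hAr).2
  -- the cores of the involutions of `S`
  have hcore : ∀ v ∈ (S : Subgroup G), v ≠ 1 → Cfsg.centralizerPPrimeCore 2 v ≤ W := fun v hv hv1 => by
    rw [(hW S le_rfl hSr).1]
    exact le_iSup (fun b : {b : G // b ∈ (S : Subgroup G) ∧ b ≠ 1} => Cfsg.centralizerPPrimeCore 2 (b : G)) ⟨v, hv, hv1⟩
  obtain ⟨M, hMtop, hNA, hC⟩ : ∃ M : Subgroup G, M ≠ ⊤ ∧ normalizer (A : Set G) ≤ M ∧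
      ∀ v ∈ (S : Subgroup G), orderOf v = 2 → centralizer ({v} : Set G) ≤ M := by
    by_cases hW1 : W = ⊥
    · -- trivial cores
      have hbot : ∀ v ∈ (S : Subgroup G), v ≠ 1 → Cfsg.centralizerPPrimeCore 2 v = ⊥ := fun v hv hv1 =>
        le_bot_iff.1 (hW1 ▸ hcore v hv hv1)
      have hA0 : ∀ b ∈ A, b ≠ 1 → centralizer ({b} : Set G) ≤ normalizer (A : Set G) := by
        intro b hb hb1
        obtain ⟨g, B', h1, h2, -, -, -, h5⟩ := F.local_data (F.le hb) (orderOf_eq_prime (F.sq b hb) hb1)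
        rw [hbot b (F.le hb) hb1, bot_sup_eq] at h5
        have hBA : A ⊓ centralizer ({b} : Set G) = A := inf_eq_left.2 fun a ha =>
          mem_centralizer_iff.2 (by rintro _ rfl; exact F.comm _ hb a ha)
        rw [hBA] at h1
        have he : B' = A := (eq_of_le_of_card_ge h1 (by
          calc Nat.card B' ≤ Nat.card (A.map (MulAut.conj g).toMonoidHom) :=
                Nat.le_of_dvd Nat.card_pos (card_dvd_of_le h2)
            _ = Nat.card A := card_map_of_injective (MulAut.conj g).injective)).symm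
        rwa [he] at h5
      refine ⟨normalizer (A : Set G), F.base.ne_top F.nbot
        (Group.isSolvable_of_comm fun a b => Subtype.ext (F.comm _ a.2 _ b.2)), le_rfl, ?_⟩
      intro v hv hv2
      have hv1 : v ≠ 1 := fun e => by simp [e] at hv2
      obtain ⟨g, B', h1, h2, h3, -, -, h5⟩ := F.local_data hv hv2
      rw [hbot v hv hv1, bot_sup_eq] at h5
      set B := A ⊓ centralizer ({v} : Set G)
      have hB4 := F.four_le (F.le_normalizer_sylow hv) (by rw [← hv2]; exact pow_orderOf_eq_one v)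
      obtain ⟨b, hb, hb1⟩ : ∃ b ∈ B, b ≠ 1 := by
        refine exists_ne_one_of_card_gt ?_
        exact lt_of_lt_of_le (by norm_num) hB4
      have hB'N : B' ≤ normalizer (A : Set G) := fun x hx => by
        refine hA0 b hb.1 hb1 (mem_centralizer_iff.2 ?_)
        rintro _ rfl
        obtain ⟨a1, ha1, e1⟩ := h2 (h1 hb)
        obtain ⟨a2, ha2, e2⟩ := h2 hx
        rw [← e1, ← e2, ← map_mul, ← map_mul, F.comm _ ha1 _ ha2]
      have hB'A : B' ≤ A := by
        obtain ⟨R, hR⟩ := ((F.isPGroup.map (MulAut.conj g).toMonoidHom).to_le h2).comap_subtype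
          (K := normalizer (A : Set G)) |>.exists_le_sylow
        obtain ⟨m, hm⟩ := MulAction.exists_smul_eq (normalizer (A : Set G)) R (S.subtype F.le_normalizer_sylow)
        intro x hx
        have hxR : (⟨x, hB'N hx⟩ : normalizer (A : Set G)) ∈ (R : Subgroup (normalizer (A : Set G))) := hR hx
        have h6 : m * ⟨x, hB'N hx⟩ * m⁻¹ ∈ ((m • R : Sylow 2 _) : Subgroup (normalizer (A : Set G))) :=
          Subgroup.smul_mem_pointwise_smul (a := MulAut.conj m) _ _ hxR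
        rw [hm] at h6
        have h7 : m.1 * x * m.1⁻¹ ∈ (S : Subgroup G) := h6
        obtain ⟨a, ha, rfl⟩ := h2 hx
        change m.1 * (g * a * g⁻¹) * m.1⁻¹ ∈ (S : Subgroup G) at h7
        have h8 : m.1 * (g * a * g⁻¹) * m.1⁻¹ ∈ A := by
          have := F.closed_conj (g := g) (h := m.1⁻¹) ha (by rwa [inv_inv])
          rwa [inv_inv] at this
        exact (mem_normalizer_iff.1 m.2 _).2 h8
      have he : B' = B := le_antisymm (le_inf hB'A h3) h1
      rw [he] at h5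
      refine h5.trans fun n hn => ?_
      obtain ⟨y, hy, hye⟩ := F.fus (B : Set G) (fun z hz => hz.1) n (fun z hz =>
        ((mem_normalizer_iff.1 hn z).1 hz).1)
      have hc : y⁻¹ * n ∈ normalizer (A : Set G) := hA0 b hb.1 hb1 (mem_centralizer_iff.2 (by
        intro z hz
        rw [show z = b from hz]
        have h := hye b hb
        calc b * (y⁻¹ * n) = y⁻¹ * (y * b * y⁻¹) * n := by group
          _ = y⁻¹ * (n * b * n⁻¹) * n := by rw [h]
          _ = y⁻¹ * n * b := by group))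
      simpa using mul_mem hy hc
    · refine ⟨normalizer (W : Set G), F.base.ne_top hW1 (Cfsg.Agent.S0205.result hWodd), hWA, ?_⟩
      intro v hv hv2
      have hv1 : v ≠ 1 := fun e => by simp [e] at hv2
      obtain ⟨g, B', h1, h2, -, h3, h4, h5⟩ := F.local_data hv hv2
      set B := A ⊓ centralizer ({v} : Set G)
      have hB4 := F.four_le (F.le_normalizer_sylow hv) (by rw [← hv2]; exact pow_orderOf_eq_one v)
      have hBr : ¬ Cfsg.PRankLE 2 1 B :=
        not_pRankLE_one le_rfl (fun a ha b hb => F.comm a ha.1 b hb.1) (fun a ha => F.sq a ha.1) hB4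
      have hB'r : ¬ Cfsg.PRankLE 2 1 B' :=
        not_pRankLE_one h1 (fun a ha b hb => F.comm a ha.1 b hb.1) (fun a ha => F.sq a ha.1) hB4
      obtain ⟨W', -, hW'⟩ := F.exists_common (g • S)
      have he : W' = W := (hW' B h4 hBr).1.trans (hW B (inf_le_left.trans F.le) hBr).1.symm
      refine h5.trans (sup_le ((hcore v hv hv1).trans le_normalizer) ?_)
      exact he ▸ (hW' B' h3 hB'r).2
  have hSM : (S : Subgroup G) ≤ M := F.le_normalizer_sylow.trans hNA
  have key : ∀ t ∈ M, orderOf t = 2 → ∃ m ∈ M, m * t * m⁻¹ ∈ (S : Subgroup G) := by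
    intro t ht ht2
    have hp2 : IsPGroup 2 (zpowers (⟨t, ht⟩ : M)) :=
      IsPGroup.of_card (n := 1) (by rw [Nat.card_zpowers, Subgroup.orderOf_mk, ht2, pow_one])
    obtain ⟨R, hR⟩ := hp2.exists_le_sylow
    obtain ⟨m, hm⟩ := MulAction.exists_smul_eq M R (S.subtype hSM)
    have h6 : m * ⟨t, ht⟩ * m⁻¹ ∈ ((m • R : Sylow 2 M) : Subgroup M) :=
      Subgroup.smul_mem_pointwise_smul (a := MulAut.conj m) _ _ (hR (mem_zpowers _))
    rw [hm] at h6
    exact ⟨m, m.2, h6⟩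
  have hCM : ∀ t ∈ M, orderOf t = 2 → centralizer ({t} : Set G) ≤ M := by
    intro t ht ht2
    obtain ⟨m, hm, hmt⟩ := key t ht ht2
    intro c hc
    have h2 : orderOf (m * t * m⁻¹) = 2 := by
      rw [show m * t * m⁻¹ = MulAut.conj m t from rfl, MulEquiv.orderOf_eq, ht2]
    have h3 := hC _ hmt h2 (x := m * c * m⁻¹) (mem_centralizer_iff.2 (by
      rintro _ rfl
      calc m * t * m⁻¹ * (m * c * m⁻¹) = m * (t * c) * m⁻¹ := by group
        _ = m * (c * t) * m⁻¹ := by rw [mem_centralizer_iff.1 hc t rfl]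
        _ = _ := by group))
    have h4 := mul_mem (mul_mem (inv_mem hm) h3) hm
    rwa [show m⁻¹ * (m * c * m⁻¹) * m = c by group] at h4
  -- fusion of involutions of `M` is controlled by `M`
  have hfus : ∀ t ∈ M, orderOf t = 2 → ∀ g : G, g * t * g⁻¹ ∈ M → g ∈ M := by
    intro t0 ht0 ht02 g0 hg0
    obtain ⟨m1, hm1, hm1t⟩ := key t0 ht0 ht02
    set t := m1 * t0 * m1⁻¹ with htdef
    have ht2 : orderOf t = 2 := by
      rw [htdef, show m1 * t0 * m1⁻¹ = MulAut.conj m1 t0 from rfl, MulEquiv.orderOf_eq, ht02]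
    obtain ⟨m2, hm2, hm2t⟩ := key _ hg0
      (by rw [show g0 * t0 * g0⁻¹ = MulAut.conj g0 t0 from rfl, MulEquiv.orderOf_eq, ht02])
    set g := m2 * g0 * m1⁻¹ with hgdef
    suffices hg : g ∈ M by
      have h := mul_mem (mul_mem (inv_mem hm2) hg) hm1
      rwa [hgdef, show m2⁻¹ * (m2 * g0 * m1⁻¹) * m1 = g0 by group] at h
    have hgt : g * t * g⁻¹ ∈ (S : Subgroup G) := by
      rwa [show g * t * g⁻¹ = m2 * (g0 * t0 * g0⁻¹) * m2⁻¹ by rw [hgdef, htdef]; group]
    set B := A ⊓ centralizer ({t} : Set G)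
    have hB4 := F.four_le (F.le_normalizer_sylow hm1t) (by rw [← ht2]; exact pow_orderOf_eq_one t)
    obtain ⟨b, hb, hb1⟩ : ∃ b ∈ B, b ≠ 1 := exists_ne_one_of_card_gt (lt_of_lt_of_le (by norm_num) hB4)
    have hgB : B.map (MulAut.conj g).toMonoidHom ≤ M := by
      rintro _ ⟨z, hz, rfl⟩
      refine hCM (g * t * g⁻¹) (hSM hgt)
        (by rw [show g * t * g⁻¹ = MulAut.conj g t from rfl, MulEquiv.orderOf_eq, ht2]) (mem_centralizer_iff.2 ?_)
      rintro _ rfl
      show g * t * g⁻¹ * (g * z * g⁻¹) = g * z * g⁻¹ * (g * t * g⁻¹)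
      calc g * t * g⁻¹ * (g * z * g⁻¹) = g * (t * z) * g⁻¹ := by group
        _ = g * (z * t) * g⁻¹ := by rw [mem_centralizer_iff.1 hz.2 t rfl]
        _ = _ := by group
    obtain ⟨R, hR⟩ := ((F.isPGroup.to_le (inf_le_left (b := centralizer ({t} : Set G)))).map
      (MulAut.conj g).toMonoidHom).comap_subtype (K := M) |>.exists_le_sylow
    obtain ⟨m, hm⟩ := MulAction.exists_smul_eq M R (S.subtype hSM)
    obtain ⟨y, hy, hye⟩ := F.fus (B : Set G) (fun z hz => hz.1) (m.1 * g) (fun z hz => by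
      have hzR : (⟨g * z * g⁻¹, hgB ⟨z, hz, rfl⟩⟩ : M) ∈ (R : Subgroup M) := hR ⟨z, hz, rfl⟩
      have h6 : m * (⟨g * z * g⁻¹, hgB ⟨z, hz, rfl⟩⟩ : M) * m⁻¹ ∈ ((m • R : Sylow 2 M) : Subgroup M) :=
        Subgroup.smul_mem_pointwise_smul (a := MulAut.conj m) _ _ hzR
      rw [hm] at h6
      have h7 : m.1 * (g * z * g⁻¹) * m.1⁻¹ ∈ (S : Subgroup G) := h6
      refine F.closed.2 z hz.1 _ ?_
      rwa [show m.1 * g * z * (m.1 * g)⁻¹ = m.1 * (g * z * g⁻¹) * m.1⁻¹ by group])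
    have hc : y⁻¹ * (m.1 * g) ∈ M := hC b (F.le hb.1) (orderOf_eq_prime (F.sq b hb.1) hb1)
      (mem_centralizer_iff.2 (by
        intro z hz
        rw [show z = b from hz]
        have h := hye b hb
        calc b * (y⁻¹ * (m.1 * g)) = y⁻¹ * (y * b * y⁻¹) * (m.1 * g) := by group
          _ = y⁻¹ * (m.1 * g * b * (m.1 * g)⁻¹) * (m.1 * g) := by rw [h]
          _ = y⁻¹ * (m.1 * g) * b := by group))
    have h9 := mul_mem (hNA hy) hc
    rw [show y * (y⁻¹ * (m.1 * g)) = m.1 * g by group] at h9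
    simpa using mul_mem (inv_mem m.2) h9
  refine ⟨M, Cfsg.Lib.StrongEmb.of_conditions hMtop
    (even_iff_two_dvd.2 ((S.dvd_card_of_dvd_card F.base.even).trans (card_dvd_of_le hSM))) hCM ?_, hSM, hNA, hC⟩
  intro t ht s hs ht2 _ hconj
  obtain ⟨g, hg⟩ := isConj_iff.1 hconj
  exact ⟨g, hfus t ht ht2 g (by rw [hg]; exact hs), hg⟩
where
  exists_ne_one_of_card_gt {K : Subgroup G} (h : 1 < Nat.card K) : ∃ b ∈ K, b ≠ 1 := by
    by_contra hno
    push Not at hno
    have : K = ⊥ := (eq_bot_iff_forall K).2 hno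
    rw [this, card_bot] at h
    omega

end Frame

end Cfsg.Lib.PPrimeNil
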