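import Cfsg.Agent.SolvStruct.PPrimeNilpotent.Setup

/-!
The rank of the strongly closed subgroup is at least 3.
-/

set_option autoImplicit false
set_option linter.style.haveILetI false
set_option linter.unusedSectionVars false

namespace Cfsg.Lib.PPrimeNil

open Subgroup

universe u

variable {p : ℕ} {G : Type u} [Group G] [Finite G]

/-- conjugation action of the normalizer -/
def auto (A : Subgroup G) : normalizer (A : Set G) →* Equiv.Perm A where
  toFun x :=
    { toFun := fun a => ⟨x.1 * a.1 * x.1⁻¹, (mem_normalizer_iff.1 x.2 a.1).1 a.2⟩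
      invFun := fun a => ⟨x.1⁻¹ * a.1 * x.1⁻¹⁻¹, (mem_normalizer_iff.1 (inv_mem x.2) a.1).1 a.2⟩
      left_inv := fun a => Subtype.ext (by simp [mul_assoc])
      right_inv := fun a => Subtype.ext (by simp [mul_assoc]) }
  map_one' := Equiv.ext fun a => Subtype.ext (by simp)
  map_mul' x y := Equiv.ext fun a => Subtype.ext (by simp [mul_assoc])

theorem auto_apply (A : Subgroup G) (x : normalizer (A : Set G)) (a : A) :
    ((auto A x a : A) : G) = x.1 * a.1 * x.1⁻¹ := rfl

theorem auto_ker {A : Subgroup G} {x : normalizer (A : Set G)} :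
    auto A x = 1 ↔ x.1 ∈ centralizer (A : Set G) := by
  refine ⟨fun h => mem_centralizer_iff.2 fun a ha => ?_, fun h => Equiv.ext fun a => Subtype.ext ?_⟩
  · have h1 : x.1 * a * x.1⁻¹ = a := congrArg (fun e : Equiv.Perm A => ((e ⟨a, ha⟩ : A) : G)) h
    exact ((mul_inv_eq_iff_eq_mul.1 h1)).symm
  · rw [auto_apply, ← mem_centralizer_iff.1 h a.1 a.2, mul_inv_cancel_right]
    rfl

/-- an element is a `2`-element modulo the kernel when its odd parts act trivially -/
theorem auto_two_power (A : Subgroup G) (h : ∀ y ∈ normalizer (A : Set G), Odd (orderOf y) → y ∈ centralizer (A : Set G))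
    (x : normalizer (A : Set G)) : ∃ k : ℕ, auto A x ^ 2 ^ k = 1 := by
  obtain ⟨k, r, hr, hn⟩ := Nat.exists_eq_pow_mul_and_not_dvd (orderOf_pos x).ne' 2 (by norm_num)
  refine ⟨k, ?_⟩
  rw [← map_pow, auto_ker]
  refine h _ (x ^ 2 ^ k).2 (Odd.of_dvd_nat (Nat.odd_iff.2 (Nat.two_dvd_ne_zero.1 hr)) ?_)
  rw [Subgroup.orderOf_coe]
  exact orderOf_dvd_of_pow_eq_one (by rw [← pow_mul, ← hn, pow_orderOf_eq_one])

namespace Frame

variable {S : Sylow 2 G} {A : Subgroup G}

theorem odd_centralizes_small (F : Frame p G S A) (h4 : Nat.card A ≤ 4) {y : G}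
    (hy : y ∈ normalizer (A : Set G)) (hodd : Odd (orderOf y)) : y ∈ centralizer (A : Set G) := by
  obtain ⟨e, r, hr, hn⟩ := Nat.exists_eq_pow_mul_and_not_dvd (orderOf_pos y).ne' p F.base.prime.ne_one
  have h1 : auto A ⟨y, hy⟩ ^ p ^ e = 1 := by
    rw [← map_pow, auto_ker]
    have hd : orderOf (y ^ p ^ e) ∣ r := orderOf_dvd_of_pow_eq_one (by rw [← pow_mul, ← hn, pow_orderOf_eq_one])
    refine F.odd_centralizes_of_coprime (pow_mem hy _) (Odd.of_dvd_nat ?_ hd) ?_
    · exact Odd.of_dvd_nat hodd (hn ▸ dvd_mul_left r _)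
    · exact Nat.Coprime.coprime_dvd_left hd (F.base.prime.coprime_iff_not_dvd.2 hr).symm
  have h2 : auto A ⟨y, hy⟩ ^ 24 = 1 := by
    refine orderOf_dvd_iff_pow_eq_one.1 ((_root_.orderOf_dvd_natCard _).trans ?_)
    rw [Nat.card_perm]
    exact Nat.factorial_dvd_factorial h4
  have hcop : (p ^ e).Coprime 24 := by
    refine Nat.Coprime.pow_left e (F.base.prime.coprime_iff_not_dvd.2 fun hd => ?_)
    have h24 : p ∣ 2 ^ 3 * 3 := by norm_num; exact hd
    rcases F.base.prime.dvd_mul.1 h24 with h | h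
    · have := (Nat.prime_dvd_prime_iff_eq F.base.prime Nat.prime_two).1 (F.base.prime.dvd_of_dvd_pow h)
      have := F.base.three
      omega
    · have := (Nat.prime_dvd_prime_iff_eq F.base.prime Nat.prime_three).1 h
      have := F.base.three
      omega
  rw [← auto_ker (x := ⟨y, hy⟩), ← orderOf_eq_one_iff]
  exact Nat.eq_one_of_dvd_coprimes hcop (orderOf_dvd_of_pow_eq_one h1) (orderOf_dvd_of_pow_eq_one h2)

theorem exists_central (F : Frame p G S A) : ∃ a ∈ A, a ≠ 1 ∧ ∀ s ∈ (S : Subgroup G), s * a * s⁻¹ = a := by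
  haveI : Fact (Nat.Prime 2) := ⟨Nat.prime_two⟩
  haveI : (A.subgroupOf (S : Subgroup G)).Normal :=
    (normal_subgroupOf_iff_le_normalizer F.le).2 F.le_normalizer_sylow
  haveI : Group.IsNilpotent (S : Subgroup G) := S.2.isNilpotent
  have hne : A.subgroupOf (S : Subgroup G) ≠ ⊥ := fun h => F.nbot (by
    rw [← map_subgroupOf_eq_of_le F.le, h, Subgroup.map_bot])
  obtain ⟨⟨⟨a, ha⟩, haA, hac⟩, ha1⟩ :=
    Subgroup.ne_bot_iff_exists_ne_one.1 (Cfsg.Lib.Coprime.inf_center_ne_bot _ hne)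
  refine ⟨a, haA, fun e => ha1 (Subtype.ext (Subtype.ext e)), fun s hs => ?_⟩
  have h := congrArg Subtype.val (mem_center_iff.1 hac ⟨s, hs⟩)
  exact mul_inv_eq_iff_eq_mul.2 h

theorem card_ge (F : Frame p G S A) : 8 ≤ Nat.card A := by
  haveI : Fact (Nat.Prime 2) := ⟨Nat.prime_two⟩
  haveI := F.base.simple
  obtain ⟨k, hk⟩ := IsPGroup.iff_card.1 F.isPGroup
  by_contra h8
  have h4 : Nat.card A ≤ 4 := by
    rw [hk] at h8 ⊢
    have : k ≤ 2 := by
      by_contra hk3
      exact h8 ((show (8 : ℕ) = 2 ^ 3 by norm_num).le.trans (Nat.pow_le_pow_right (by norm_num) (by omega)))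
    exact (Nat.pow_le_pow_right (by norm_num) this).trans (by norm_num)
  have h2 := auto_two_power A fun y hy ho => F.odd_centralizes_small h4 hy ho
  set N := normalizer (A : Set G) with hN
  set φ := (auto A).rangeRestrict with hφ
  have hφs : Function.Surjective φ := (auto A).rangeRestrict_surjective
  have hRp : IsPGroup 2 (auto A).range := by
    rintro ⟨_, x, rfl⟩
    obtain ⟨j, hj⟩ := h2 x
    exact ⟨j, Subtype.ext hj⟩
  set SN : Sylow 2 N := S.subtype F.le_normalizer_sylow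
  have htop : (SN : Subgroup N).map φ = ⊤ := by
    have h := (SN.mapSurjective hφs).3 (Q := ⊤) (hRp.of_equiv Subgroup.topEquiv.symm) le_top
    rw [← Sylow.coe_mapSurjective hφs]
    exact h.symm
  obtain ⟨a, ha, ha1, hfix⟩ := F.exists_central
  have hiso : ∀ g : G, g * a * g⁻¹ ∈ (S : Subgroup G) → g * a * g⁻¹ = a := by
    intro g hg
    have hgA := F.closed.2 a ha g hg
    obtain ⟨x, hx, hxe⟩ := F.fus {a} (Set.singleton_subset_iff.2 ha) g (by rintro b rfl; exact hgA)
    rw [← hxe a rfl]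
    obtain ⟨s, hs, hse⟩ := htop.ge (mem_top (φ ⟨x, hx⟩))
    have h := congrArg (fun e : (auto A).range => ((e.1 ⟨a, ha⟩ : A) : G)) hse
    exact h.symm.trans (hfix s.1 hs)
  have hord : orderOf a = 2 := orderOf_eq_prime (F.sq a ha) ha1
  obtain ⟨W, hWn, hWodd, hW⟩ := Cfsg.Agent.S0215.result S a hord (F.le ha) hiso
  rcases hWn.eq_bot_or_eq_top with hb | ht
  · apply F.base.centralizer_ne_top ha1
    refine eq_top_iff.2 fun g _ => mem_centralizer_iff.2 ?_
    rintro _ rfl
    have h := hW g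
    rw [hb, mem_bot] at h
    exact (mul_inv_eq_iff_eq_mul.1 (mul_inv_eq_one.1 h))
  · rw [ht, card_top] at hWodd
    exact Nat.not_even_iff_odd.2 hWodd (even_iff_two_dvd.2 F.base.even)

end Frame

end Cfsg.Lib.PPrimeNil
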