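import Cfsg.Agent.SolvStruct.PPrimeNilpotent.Basic
import Cfsg.Agent.SolvStruct.PPrimeNilpotent.Closed
import Cfsg.Agent.S0205
import Cfsg.Agent.S0215
import Cfsg.Agent.S2796

/-!
The minimal counterexample: an elementary strongly closed abelian 2-subgroup of rank at least 3.
-/

set_option autoImplicit false
set_option linter.style.haveILetI false
set_option linter.unusedSectionVars false

namespace Cfsg.Lib.PPrimeNil

open Subgroup

universe u

variable {p : ℕ} {G : Type u} [Group G] [Finite G]

/-- a minimal counterexample -/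
structure Min (p : ℕ) (G : Type u) [Group G] : Prop where
  prime : p.Prime
  three : 3 < p
  hyp : Hyp p G
  simple : IsSimpleGroup G
  ns : ¬ Group.IsSolvable G
  proper : ∀ K : Subgroup G, K ≠ ⊤ → Group.IsSolvable K

/-- the strongly closed subgroup -/
structure Frame (p : ℕ) (G : Type u) [Group G] (S : Sylow 2 G) (A : Subgroup G) : Prop where
  base : Min p G
  le : A ≤ (S : Subgroup G)
  comm : ∀ a ∈ A, ∀ b ∈ A, a * b = b * a
  sq : ∀ a ∈ A, a ^ 2 = 1
  closed : Cfsg.IsStronglyClosed A (S : Subgroup G)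
  fus : ∀ (B : Set G), B ⊆ (A : Set G) → ∀ g : G, (∀ b ∈ B, g * b * g⁻¹ ∈ A) →
    ∃ x ∈ normalizer (A : Set G), ∀ b ∈ B, x * b * x⁻¹ = g * b * g⁻¹
  nbot : A ≠ ⊥

theorem Min.ne_top (h : Min p G) {H : Subgroup G} (hH : H ≠ ⊥) (hsol : Group.IsSolvable H) :
    normalizer (H : Set G) ≠ ⊤ := by
  haveI := h.simple
  intro e
  rcases (normalizer_eq_top_iff.1 e).eq_bot_or_eq_top with hb | ht
  · exact hH hb
  · subst ht
    haveI := hsol
    exact h.ns (Group.isSolvable_of_surjective (f := (⊤ : Subgroup G).subtype) fun g => ⟨⟨g, mem_top g⟩, rfl⟩)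

theorem Min.centralizer_ne_top (h : Min p G) {x : G} (hx : x ≠ 1) : centralizer ({x} : Set G) ≠ ⊤ := by
  haveI := h.simple
  intro e
  have hc : x ∈ center G := mem_center_iff.2 fun g =>
    ((mem_centralizer_iff.1 (e.ge (mem_top g))) x rfl).symm
  rcases (inferInstance : (center G).Normal).eq_bot_or_eq_top with hb | ht
  · exact hx (by rwa [hb, mem_bot] at hc)
  · exact h.ns (Group.isSolvable_of_comm fun a b => mem_center_iff.1 (ht.ge (mem_top b)) a)

theorem Min.even (h : Min p G) : 2 ∣ Nat.card G := by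
  by_contra h2
  exact h.ns (Cfsg.Agent.S0205.result (Nat.odd_iff.mpr (Nat.two_dvd_ne_zero.mp h2)))

theorem exists_frame (h : Min p G) (S : Sylow 2 G) : ∃ A : Subgroup G, Frame p G S A := by
  haveI : Fact (Nat.Prime 2) := ⟨Nat.prime_two⟩
  haveI := h.simple
  set N := normalizer (Cfsg.thompsonSubgroupOf 2 (S : Subgroup G) : Set G) with hN
  set A := (normalClosure (((Cfsg.omegaOne 2 ((S : Subgroup G) ⊓ centralizer ((S : Subgroup G) : Set G))).subgroupOf
    N : Subgroup ↥N) : Set ↥N)).map N.subtype with hA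
  have hsec : ∀ (K R : Subgroup G) [hR : (R.subgroupOf K).Normal],
      centralizer (Cfsg.pCore 2 (K ⧸ R.subgroupOf K) : Set (K ⧸ R.subgroupOf K)) ≤ Cfsg.pCore 2 (K ⧸ R.subgroupOf K) →
      Cfsg.IsCompositionKGroupWith Cfsg.IsSuzukiOrPSL2OddPowerThree (K ⧸ R.subgroupOf K) := by
    intro K R hR hc H _ N' hN' hsimp hna
    haveI := hN'
    haveI := hsimp
    have hsol : Group.IsSolvable (K ⧸ R.subgroupOf K) := by
      by_cases hK : K = ⊤
      · subst hK
        haveI : (R.subgroupOf ⊤).Normal := hR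
        rcases (hR.map (⊤ : Subgroup G).subtype fun g => ⟨⟨g, mem_top g⟩, rfl⟩).eq_bot_or_eq_top with hb | ht
        · exfalso
          have hb' : R.subgroupOf ⊤ = ⊥ :=
            (map_eq_bot_iff_of_injective _ (⊤ : Subgroup G).subtype_injective).1 hb
          let e : ((⊤ : Subgroup G) ⧸ R.subgroupOf ⊤) ≃* G :=
            ((QuotientGroup.quotientMulEquivOfEq hb').trans QuotientGroup.quotientBot).trans Subgroup.topEquiv
          set Q := Cfsg.pCore 2 ((⊤ : Subgroup G) ⧸ R.subgroupOf ⊤)
          have hQp : IsPGroup 2 Q := Cfsg.Lib.Components.isPGroup_pCore 2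
          haveI : Q.Normal := Cfsg.Lib.Components.pCore_normal' 2
          rcases ((inferInstance : Q.Normal).map e.toMonoidHom e.surjective).eq_bot_or_eq_top with hq | hq
          · have hQb : Q = ⊥ := (map_eq_bot_iff_of_injective _ e.injective).1 hq
            rw [hQb, le_bot_iff] at hc
            have htop : centralizer (((⊥ : Subgroup ((⊤ : Subgroup G) ⧸ R.subgroupOf ⊤)) :
                Set ((⊤ : Subgroup G) ⧸ R.subgroupOf ⊤))) = ⊤ :=
              eq_top_iff.2 fun g _ => mem_centralizer_iff.2 fun y hy => by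
                have hy1 : y = 1 := mem_bot.1 hy
                rw [hy1, one_mul, mul_one]
            rw [htop] at hc
            have hall : ∀ y : (⊤ : Subgroup G) ⧸ R.subgroupOf ⊤, y = 1 := fun y =>
              mem_bot.1 (hc.le (mem_top y))
            exact h.ns (Group.isSolvable_of_comm fun a b =>
              e.symm.injective ((hall _).trans (hall _).symm))
          · haveI : Group.IsNilpotent Q := hQp.isNilpotent
            refine h.ns (Group.isSolvable_of_surjective (f := e.toMonoidHom.comp Q.subtype) fun g => ?_)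
            obtain ⟨y, hy, he⟩ := hq.ge (mem_top g)
            exact ⟨⟨y, hy⟩, he⟩
        · haveI : Subsingleton ((⊤ : Subgroup G) ⧸ R.subgroupOf ⊤) := by
            rw [QuotientGroup.subsingleton_iff]
            rw [map_subgroupOf_eq_of_le le_top] at ht
            rw [ht]
            exact subgroupOf_self ⊤
          exact Group.isSolvable_of_comm fun a b => Subsingleton.elim _ _
      · haveI := h.proper K hK
        infer_instance
    haveI := hsol
    haveI : Group.IsSolvable (H ⧸ N') := inferInstance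
    exact (hna ⟨⟨(IsSimpleGroup.comm_iff_isSolvable (G := H ⧸ N')).2 inferInstance⟩⟩).elim
  obtain ⟨hle, ⟨hc, hsq⟩, hcl, T, hAT, hfus⟩ :=
    Cfsg.Agent.S2796.result (s4_free h.prime h.three h.hyp) hsec S N hN A hA
  refine ⟨A, h, hle, fun a ha b hb => congrArg Subtype.val (hc.1.1 ⟨a, ha⟩ ⟨b, hb⟩), hsq, hcl, ?_, ?_⟩
  · intro B hB g hg
    obtain ⟨x, hx, hxe⟩ := (hfus B fun b hb => hAT (hB hb)).2 g (by
      rintro _ ⟨b, hb, rfl⟩
      exact hAT (hg b hb))
    exact ⟨x, hx, fun b hb => (hxe b hb).symm⟩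
  · intro hbot
    have hS1 : (S : Subgroup G) ≠ ⊥ := S.ne_bot_of_dvd_card h.even
    haveI : Nontrivial (S : Subgroup G) := (nontrivial_iff_ne_bot _).2 hS1
    have hZp : IsPGroup 2 (center (S : Subgroup G)) := S.2.to_subgroup _
    haveI : Nontrivial (center (S : Subgroup G)) := S.2.center_nontrivial
    obtain ⟨k, hk, hkc⟩ := hZp.nontrivial_iff_card.mp inferInstance
    obtain ⟨z, hz⟩ := exists_prime_orderOf_dvd_card' (G := center (S : Subgroup G)) 2
      (hkc ▸ dvd_pow_self 2 hk.ne')
    set w : G := ((z : (S : Subgroup G)) : G)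
    have hw1 : w ≠ 1 := fun e => by
      rw [orderOf_eq_one_iff.2 (show z = 1 from Subtype.ext (Subtype.ext e))] at hz
      norm_num at hz
    have hwS : w ∈ (S : Subgroup G) := z.1.2
    have hwC : w ∈ centralizer ((S : Subgroup G) : Set G) := mem_centralizer_iff.2 fun s hs =>
      congrArg Subtype.val (mem_center_iff.1 z.2 ⟨s, hs⟩)
    have hwN : w ∈ N := by
      refine mem_normalizer_iff.2 fun y => ?_
      have key : ∀ y ∈ Cfsg.thompsonSubgroupOf 2 (S : Subgroup G), w * y * w⁻¹ = y := fun y hy => by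
        have hyS : y ∈ (S : Subgroup G) := map_subtype_le _ hy
        rw [← (mem_centralizer_iff.1 hwC y hyS), mul_inv_cancel_right]
      refine ⟨fun hy => by rw [key y hy]; exact hy, fun hy => ?_⟩
      have h1 := key _ hy
      have h2 : w * y * w⁻¹ = y := mul_left_cancel (mul_right_cancel h1)
      rwa [h2] at hy
    have hwA : w ∈ A := by
      refine ⟨⟨w, hwN⟩, subset_normalClosure ?_, rfl⟩
      exact subset_closure ⟨⟨hwS, hwC⟩, congrArg (fun a : center (S : Subgroup G) => ((a : (S : Subgroup G)) : G))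
        (show z ^ 2 = 1 from (congrArg (z ^ ·) hz.symm).trans (pow_orderOf_eq_one z))⟩
    rw [hbot, mem_bot] at hwA
    exact hw1 hwA

namespace Frame

variable {S : Sylow 2 G} {A : Subgroup G}

theorem le_normalizer_sylow (F : Frame p G S A) : (S : Subgroup G) ≤ normalizer (A : Set G) := by
  intro s hs
  refine mem_normalizer_iff.2 fun a => ⟨fun ha => ?_, fun ha => ?_⟩
  · exact F.closed.2 a ha s (mul_mem (mul_mem hs (F.le ha)) (inv_mem hs))
  · have h1 := F.closed.2 _ ha s⁻¹ (mul_mem (mul_mem (inv_mem hs) (F.le ha)) (inv_mem (inv_mem hs)))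
    rwa [show s⁻¹ * (s * a * s⁻¹) * s⁻¹⁻¹ = a by group] at h1

theorem isPGroup (F : Frame p G S A) : IsPGroup 2 A := S.2.to_le F.le

/-- the conjugation map of the normalizer on `A` -/
theorem odd_centralizes_of_coprime (F : Frame p G S A) {y : G} (hy : y ∈ normalizer (A : Set G))
    (hodd : Odd (orderOf y)) (hyp : (orderOf y).Coprime p) : y ∈ centralizer (A : Set G) := by
  haveI : Fact (Nat.Prime 2) := ⟨Nat.prime_two⟩
  refine mem_centralizer_iff.2 fun a ha => ?_
  set H := A ⊔ zpowers y
  have hdvd : Nat.card H ∣ Nat.card A * orderOf y := by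
    have hle : H ≤ normalizer (A : Set G) := sup_le le_normalizer (zpowers_le.2 hy)
    haveI : (A.subgroupOf (normalizer (A : Set G))).Normal := inferInstance
    have h1 := Cfsg.Lib.Components.card_sup_dvd_mul (A.subgroupOf (normalizer (A : Set G)))
      ((zpowers y).subgroupOf (normalizer (A : Set G)))
    rw [← subgroupOf_sup le_normalizer (zpowers_le.2 hy), Nat.card_congr (subgroupOfEquivOfLe hle).toEquiv,
      Nat.card_congr (subgroupOfEquivOfLe (le_normalizer (H := A))).toEquiv,
      Nat.card_congr (subgroupOfEquivOfLe (zpowers_le.2 hy)).toEquiv, Nat.card_zpowers] at h1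
    exact h1
  obtain ⟨k, hk⟩ := IsPGroup.iff_card.1 F.isPGroup
  have h2p : Nat.Coprime (2 ^ k) p := Nat.Coprime.pow_left k
    ((Nat.coprime_primes Nat.prime_two F.base.prime).2 (by have := F.base.three; omega))
  have hH : (Nat.card H).Coprime p :=
    Nat.Coprime.coprime_dvd_left hdvd (hk ▸ h2p.mul_left hyp)
  refine comm_of_coprime F.base.hyp hH (mem_sup_left ha) (mem_sup_right (mem_zpowers y)) ?_
  exact (Nat.coprime_two_left.2 hodd).coprime_dvd_left (orderOf_dvd_of_pow_eq_one (F.sq a ha))

end Frame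

end Cfsg.Lib.PPrimeNil
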