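import Cfsg.Agent.SolvStruct.PPrimeNilpotent.Automizer
import Cfsg.Agent.Coprime.Generation
import Cfsg.Agent.SmallExp.Solvable
import Mathlib.GroupTheory.Transfer

/-!
The odd core of the strongly embedded subgroup centralizes `A`, so `M = N(A)`.
-/

set_option autoImplicit false
set_option linter.style.haveILetI false
set_option linter.unusedSectionVars false

namespace Cfsg.Lib.PPrimeNil

open Subgroup

universe u

variable {p : ℕ} {G : Type u} [Group G] [Finite G]

namespace Emb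

variable {S : Sylow 2 G} {A M : Subgroup G}

theorem subgroupOf_frattini (E : Emb p G S A M) {K : Subgroup G} (hK : K ≠ ⊤) (hS : (S : Subgroup G) ≤ K) :
    Cfsg.pPrimeCore 2 K ⊔ normalizer ((A.subgroupOf K : Subgroup K) : Set K) = ⊤ := by
  have F := E.frame
  haveI := F.base.proper K hK
  refine closed_frattini (S.subtype hS) (A.subgroupOf K) (fun a ha => F.le ha)
    (fun a ha b hb => Subtype.ext (F.comm _ ha _ hb)) ⟨fun a ha => F.le ha, fun a ha g hg => ?_⟩
  exact F.closed.2 a.1 ha g.1 hg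

theorem le_of_sylow_le (E : Emb p G S A M) {K : Subgroup G} (hK : K ≠ ⊤) (hS : (S : Subgroup G) ≤ K) : K ≤ M := by
  haveI : Fact (Nat.Prime 2) := ⟨Nat.prime_two⟩
  have F := E.frame
  intro x hx
  haveI : (Cfsg.pPrimeCore 2 K).Normal := Cfsg.Lib.Components.pPrimeCore_normal' 2
  obtain ⟨o, ho, n, hn, he⟩ := mem_sup_of_normal_left.1 ((E.subgroupOf_frattini hK hS).ge (mem_top (⟨x, hx⟩ : K)))
  rw [show x = (o : G) * n from (congrArg Subtype.val he).symm]
  refine mul_mem ?_ (E.norm_le ?_)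
  · set O := (Cfsg.pPrimeCore 2 K).map K.subtype
    haveI : IsMulCommutative A := ⟨⟨fun a b => Subtype.ext (F.comm _ a.2 _ b.2)⟩⟩
    have hA : ¬ IsCyclic A := by
      intro hc
      obtain ⟨g, hg⟩ := hc.exists_generator
      have h1 : orderOf g = Nat.card A := orderOf_eq_card_of_forall_mem_zpowers hg
      have h2 : orderOf g ∣ 2 := orderOf_dvd_of_pow_eq_one (Subtype.ext (F.sq g.1 g.2))
      have h3 := Nat.le_of_dvd (by norm_num) h2
      have := F.card_ge
      omega
    have hAK : A ≤ K := F.le.trans hS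
    have hAO : A ≤ normalizer (O : Set G) := hAK.trans fun k hk =>
      le_normalizer_map K.subtype ⟨⟨k, hk⟩, by rw [normalizer_eq_top]; exact mem_top _, rfl⟩
    have hcop : (Nat.card A).Coprime (Nat.card O) := by
      obtain ⟨i, hi⟩ := IsPGroup.iff_card.1 F.isPGroup
      rw [hi, card_map_of_injective K.subtype_injective]
      exact Nat.Coprime.pow_left i (Cfsg.Lib.Components.coprime_card_pPrimeCore 2).symm
    have hgen := Cfsg.Lib.Coprime.centralizerJoin_eq hA hAO hcop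
    have hle : O ≤ M := by
      rw [← hgen]
      refine iSup₂_le fun a ha => inf_le_right.trans ?_
      exact Cfsg.Lib.StrongEmb.centralizer_le E.se (orderOf_eq_prime (F.sq a ha.1) ha.2)
        (E.sylow_le (F.le ha.1))
    exact hle ⟨o, ho, rfl⟩
  · have h := le_normalizer_map K.subtype ⟨n, hn, rfl⟩
    rwa [map_subgroupOf_eq_of_le (F.le.trans hS)] at h

theorem card_dvd (E : Emb p G S A M) : p ∣ Nat.card M := by
  have h : Nat.card (auto A).range ∣ Nat.card (normalizer (A : Set G)) := card_range_dvd (auto A)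
  rw [E.automizer.2] at h
  exact h.trans (card_dvd_of_le E.norm_le)

theorem core_centralizes (E : Emb p G S A M) :
    (Cfsg.pPrimeCore 2 M).map M.subtype ≤ centralizer (A : Set G) := by
  classical
  by_contra hO
  haveI : Fact (Nat.Prime 2) := ⟨Nat.prime_two⟩
  have F := E.frame
  haveI hpf : Fact p.Prime := ⟨F.base.prime⟩
  haveI := F.base.simple
  have hp2 : p ≠ 2 := by have := F.base.three; omega
  have hMtop := E.se.1
  haveI := F.base.proper M hMtop
  set O := Cfsg.pPrimeCore 2 M with hOdef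
  haveI hOn : O.Normal := Cfsg.Lib.Components.pPrimeCore_normal' 2
  have hAM : A ≤ M := F.le.trans E.sylow_le
  set A' := A.subgroupOf M with hA'
  set SM : Sylow 2 M := S.subtype E.sylow_le
  -- trivial 2-core
  have hO2 : Cfsg.pCore 2 M = ⊥ := by
    by_contra hQ
    set Q := Cfsg.pCore 2 M
    haveI hQn : Q.Normal := Cfsg.Lib.Components.pCore_normal' 2
    haveI : Nontrivial Q := (nontrivial_iff_ne_bot _).2 hQ
    obtain ⟨j, hj, hjc⟩ := (Cfsg.Lib.Components.isPGroup_pCore (G := M) 2).nontrivial_iff_card.mp inferInstance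
    obtain ⟨z, hz⟩ := exists_prime_orderOf_dvd_card' (G := Q) 2 (hjc ▸ dvd_pow_self 2 hj.ne')
    have hzS : z.1.1 ∈ (S : Subgroup G) := Cfsg.Lib.Coprime.pCore_le_sylow 2 SM z.2
    have hz2 : orderOf z.1.1 = 2 := by rw [Subgroup.orderOf_coe, Subgroup.orderOf_coe, hz]
    have hzA := E.invol_mem hzS hz2
    have hAQ : A' ≤ Q := by
      intro b hb
      by_cases hb1 : b = 1
      · rw [hb1]; exact one_mem _
      obtain ⟨x, hx, hxe⟩ := E.transitive hzA hb (fun e => by simp [e] at hz2) (fun e => hb1 (Subtype.ext e))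
      have h := hQn.conj_mem _ z.2 ⟨x, E.norm_le hx⟩
      rwa [show (⟨x, E.norm_le hx⟩ : M) * z.1 * (⟨x, E.norm_le hx⟩ : M)⁻¹ = b from Subtype.ext hxe] at h
    have hdisj : Disjoint O Q := by
      rw [disjoint_iff]
      refine inf_eq_bot_of_coprime ?_
      obtain ⟨i, hi⟩ := IsPGroup.iff_card.1 (Cfsg.Lib.Components.isPGroup_pCore (G := M) 2)
      rw [hi]
      exact Nat.Coprime.pow_right i (Cfsg.Lib.Components.coprime_card_pPrimeCore 2)
    refine hO ?_
    rintro _ ⟨o, ho, rfl⟩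
    refine mem_centralizer_iff.2 fun a ha => ?_
    exact (congrArg Subtype.val (Subgroup.commute_of_normal_of_disjoint O Q hOn hQn hdisj o ⟨a, hAM ha⟩ ho
      (hAQ (x := ⟨a, hAM ha⟩) ha)).eq).symm
  -- the `p'`-core has odd order
  set Q0 := Cfsg.pPrimeCore p M with hQ0
  haveI hQ0n : Q0.Normal := Cfsg.Lib.Components.pPrimeCore_normal' p
  have hQ0c : (Nat.card Q0).Coprime p := Cfsg.Lib.Components.coprime_card_pPrimeCore p
  have hQ0odd : ¬ 2 ∣ Nat.card Q0 := by
    intro hd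
    haveI : Group.IsNilpotent Q0 := hyp_subgroup F.base.hyp M Q0 hQ0c
    obtain ⟨R⟩ := (inferInstance : Nonempty (Sylow 2 Q0))
    haveI hRn : (R : Subgroup Q0).Normal := inferInstance
    haveI : (R : Subgroup Q0).Characteristic := R.characteristic_of_normal hRn
    have hb : (R : Subgroup Q0).map Q0.subtype ≤ Cfsg.pCore 2 M := Cfsg.Lib.Components.le_pCore (R.2.map _)
    rw [hO2, le_bot_iff, map_eq_bot_iff_of_injective _ Q0.subtype_injective] at hb
    exact R.ne_bot_of_dvd_card hd hb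
  -- the centre of the Thompson subgroup of a Sylow `p`-subgroup
  obtain ⟨P0⟩ := (inferInstance : Nonempty (Sylow p M))
  have hqd : ¬ Cfsg.Involves ↥(Cfsg.qd p) G := qd_free F.base.ns F.base.proper F.base.prime F.base.three
  set f := QuotientGroup.mk' Q0
  have hfs : Function.Surjective f := QuotientGroup.mk'_surjective Q0
  have hnqd : ¬ Cfsg.Involves ↥(Cfsg.qd p) (M ⧸ Q0) := fun h => hqd
    (Cfsg.Lib.QdFree.involves_of_injective M.subtype_injective (Cfsg.Lib.QuadPair.involves_of_surjective hfs h))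
  have hst : Cfsg.Lib.ZJ.Stable p (M ⧸ Q0) := Cfsg.Lib.ZJ.stable_of_isPStableOn
    fun B _ hB => Cfsg.Lib.QuadPair.stable_of_qd_free hp2 (Nat.card B) _ hnqd B hB rfl
  have hn := Cfsg.Lib.ZJ.centerThompson_normal hp2 hst
    (Cfsg.Lib.Coprime.centralizer_pCore_le p Cfsg.Lib.Coprime.pPrimeCore_quotient_eq_bot) (P0.mapSurjective hfs)
  set W := Cfsg.centerThompsonOf p (P0 : Subgroup M) with hW
  have hinj : Set.InjOn f (P0 : Subgroup M) := Cfsg.Lib.ZJ.injOn_mk hQ0c P0.2
  rw [Sylow.coe_mapSurjective, ← Cfsg.Lib.ZJ.centerThompsonOf_map_injOn hinj, ← hW] at hn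
  haveI : (W ⊔ Q0).Normal := by
    have h := hn.comap f
    rwa [comap_map_eq, show f.ker = Q0 from QuotientGroup.ker_mk' Q0] at h
  have hWp : IsPGroup p W := P0.2.to_le (Cfsg.Lib.ZJ.centerThompson_le P0)
  have hcov : Q0 ⊔ normalizer (W : Set M) = ⊤ := by
    have hidx : ¬ p ∣ (W.subgroupOf (W ⊔ Q0)).index := by
      intro hd
      have h1 : W.relIndex (W ⊔ Q0) ∣ Nat.card Q0 := by
        have hm : Nat.card W * W.relIndex (W ⊔ Q0) = Nat.card ↥(W ⊔ Q0) := by
          rw [← relIndex_bot_left W, ← relIndex_bot_left (W ⊔ Q0), relIndex_mul_relIndex _ _ _ bot_le le_sup_left]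
        have h2 := Cfsg.Lib.Components.card_sup_dvd_mul Q0 W
        rw [sup_comm, ← hm, mul_comm (Nat.card Q0)] at h2
        exact Nat.dvd_of_mul_dvd_mul_left Nat.card_pos h2
      exact F.base.prime.ne_one (Nat.eq_one_of_dvd_coprimes hQ0c (hd.trans h1) dvd_rfl)
    have hWp' : IsPGroup p (W.subgroupOf (W ⊔ Q0)) := hWp.comap_subtype
    have hFr := Sylow.normalizer_sup_eq_top (hWp'.toSylow hidx)
    rw [IsPGroup.toSylow_coe, map_subgroupOf_eq_of_le le_sup_left] at hFr
    rw [eq_top_iff, ← hFr]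
    exact sup_le le_sup_right (sup_le (le_trans le_normalizer le_sup_right) le_sup_left)
  set NW := normalizer (W : Set M)
  -- a Sylow 2-subgroup normalizes `W`
  obtain ⟨R⟩ := (inferInstance : Nonempty (Sylow 2 NW))
  have hRidx : ¬ 2 ∣ ((R : Subgroup NW).map NW.subtype).index := by
    rw [index_map, NW.ker_subtype, sup_bot_eq, range_subtype]
    refine Nat.prime_two.not_dvd_mul R.not_dvd_index fun hd => hQ0odd (hd.trans ?_)
    have h2 := Cfsg.Lib.Components.card_sup_dvd_mul Q0 NW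
    rw [hcov, card_top, ← NW.card_mul_index, mul_comm (Nat.card Q0)] at h2
    exact Nat.dvd_of_mul_dvd_mul_left Nat.card_pos h2
  obtain ⟨m, hm⟩ := MulAction.exists_smul_eq M SM ((R.2.map NW.subtype).toSylow hRidx)
  set X := W.map M.subtype with hX
  have hXp : IsPGroup p X := hWp.map _
  have hP0ne : (P0 : Subgroup M) ≠ ⊥ := P0.ne_bot_of_dvd_card E.card_dvd
  have hXne : X ≠ ⊥ := by
    rw [hX, Ne, map_eq_bot_iff_of_injective _ M.subtype_injective, hW]
    exact Cfsg.Lib.Thompson.center_ne_bot (P0.2.to_le (Cfsg.Lib.Thompson.thompsonSubgroupOf_le (p := p) _))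
      (Cfsg.Lib.Thompson.thompsonSubgroupOf_ne_bot P0.2 hP0ne)
  haveI := hXp.isNilpotent
  have hKtop : normalizer (X : Set G) ≠ ⊤ := F.base.ne_top hXne inferInstance
  have hKM : normalizer (X : Set G) ≤ M := by
    have hS : (S : Subgroup G) ≤ (normalizer (X : Set G)).comap (MulAut.conj m.1).toMonoidHom := by
      intro s hs
      have h : (⟨s, E.sylow_le hs⟩ : M) ∈ (SM : Subgroup M) := hs
      have h1 : m * (⟨s, E.sylow_le hs⟩ : M) * m⁻¹ ∈ ((m • SM : Sylow 2 M) : Subgroup M) :=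
        Subgroup.smul_mem_pointwise_smul (a := MulAut.conj m) _ _ h
      rw [hm, IsPGroup.toSylow_coe] at h1
      obtain ⟨r, -, hr⟩ := h1
      have h2 : m * (⟨s, E.sylow_le hs⟩ : M) * m⁻¹ ∈ NW := hr ▸ r.2
      exact le_normalizer_map M.subtype ⟨_, h2, rfl⟩
    have hne : (normalizer (X : Set G)).comap (MulAut.conj m.1).toMonoidHom ≠ ⊤ := by
      intro e
      refine hKtop (eq_top_iff.2 fun g _ => ?_)
      have h := e.ge (mem_top ((MulAut.conj m.1).symm g))
      rw [mem_comap] at h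
      simpa [mul_assoc] using h
    intro k hk
    have h := E.le_of_sylow_le hne hS (x := m.1⁻¹ * k * m.1) (by
      show m.1 * (m.1⁻¹ * k * m.1) * m.1⁻¹ ∈ normalizer (X : Set G)
      rwa [show m.1 * (m.1⁻¹ * k * m.1) * m.1⁻¹ = k by group])
    have h' := mul_mem (mul_mem m.2 h) (inv_mem m.2)
    rwa [show m.1 * (m.1⁻¹ * k * m.1) * m.1⁻¹ = k by group] at h'
  set P0G := (P0 : Subgroup M).map M.subtype with hP0G
  have hXeq : X = Cfsg.centerThompsonOf p P0G := Cfsg.Lib.ZJ.centerThompsonOf_map_injOn M.subtype_injective.injOn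
  have hNP : normalizer (P0G : Set G) ≤ normalizer (X : Set G) := by
    intro g hg
    have hmap : P0G.map (MulAut.conj g).toMonoidHom = P0G := by
      ext y
      rw [Cfsg.Lib.StrongEmb.mem_conj_iff]
      have := mem_normalizer_iff.1 hg (g⁻¹ * y * g)
      rwa [show g * (g⁻¹ * y * g) * g⁻¹ = y by group] at this
    have hXm : X.map (MulAut.conj g).toMonoidHom = X := by
      rw [hXeq, Cfsg.Lib.ZJ.centerThompsonOf_map_injOn (MulAut.conj g).injective.injOn, hmap]
    refine mem_normalizer_iff.2 fun y => ?_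
    conv_rhs => rw [← hXm, Cfsg.Lib.StrongEmb.mem_conj_iff, show g⁻¹ * (g * y * g⁻¹) * g = y by group]
  obtain ⟨P, hP⟩ : ∃ P : Sylow p G, (P : Subgroup G) = P0G := by
    refine Cfsg.Lib.StrongEmb.sylow_of_normalizer_le (P0.2.map _) M (map_subtype_le _) (fun Y hY h1 h2 => ?_)
      (hNP.trans hKM)
    have h3 := P0.3 (hY.comap_subtype (K := M)) (fun x hx => h1 ⟨x, hx, rfl⟩)
    rw [hP0G, ← h3]
    exact (map_subgroupOf_eq_of_le h2).symm
  -- the map onto a group of order `p`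
  set π := QuotientGroup.mk' O
  have hAn : (A'.map π).Normal := by
    refine ⟨?_⟩
    rintro _ ⟨a, ha, rfl⟩ gb
    obtain ⟨g, rfl⟩ := QuotientGroup.mk'_surjective O gb
    obtain ⟨o, ho, n, hn', rfl⟩ := mem_sup_of_normal_left.1
      ((E.subgroupOf_frattini hMtop E.sylow_le).ge (mem_top g))
    refine ⟨n * a * n⁻¹, (mem_normalizer_iff.1 hn' a).1 ha, ?_⟩
    have ho1 : π o = 1 := (QuotientGroup.eq_one_iff o).2 ho
    show π (n * a * n⁻¹) = π (o * n) * π a * (π (o * n))⁻¹
    rw [map_mul π o n, ho1, one_mul, map_mul, map_mul, map_inv]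
  let ψ : M →* Equiv.Perm (A'.map π) :=
    (auto (A'.map π)).comp (π.codRestrict (normalizer ((A'.map π : Subgroup _) : Set _)) fun x => by
      rw [normalizer_eq_top_iff.2 hAn]; exact mem_top _)
  let ι : normalizer (A : Set G) →* M := Subgroup.inclusion E.norm_le
  have hιs : (ψ.comp ι).range = ψ.range := by
    refine le_antisymm (by rintro _ ⟨x, rfl⟩; exact ⟨ι x, rfl⟩) ?_
    rintro _ ⟨g, rfl⟩
    obtain ⟨o, ho, n, hn', rfl⟩ := mem_sup_of_normal_left.1
      ((E.subgroupOf_frattini hMtop E.sylow_le).ge (mem_top g))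
    have hn2 : n.1 ∈ normalizer (A : Set G) := by
      have h := le_normalizer_map M.subtype ⟨n, hn', rfl⟩
      rwa [map_subgroupOf_eq_of_le hAM] at h
    refine ⟨⟨n.1, hn2⟩, ?_⟩
    show ψ n = ψ (o * n)
    rw [map_mul, show ψ o = 1 from auto_ker.2 (by
      rw [show ((π.codRestrict (normalizer ((A'.map π : Subgroup _) : Set _)) (fun x => by
        rw [normalizer_eq_top_iff.2 hAn]; exact mem_top _) o) : M ⧸ O) = 1 from (QuotientGroup.eq_one_iff o).2 ho]
      exact one_mem _), one_mul]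
  have hker : (ψ.comp ι).ker = (auto A).ker := by
    ext x
    rw [MonoidHom.mem_ker, MonoidHom.mem_ker]
    show auto _ _ = 1 ↔ _
    rw [auto_ker, auto_ker]
    refine ⟨fun h => mem_centralizer_iff.2 fun a ha => ?_, fun h => mem_centralizer_iff.2 ?_⟩
    · have h1 : π (⟨a, hAM ha⟩ * ι x) = π (ι x * ⟨a, hAM ha⟩) := by
        rw [map_mul, map_mul]
        exact mem_centralizer_iff.1 h _ ⟨⟨a, hAM ha⟩, ha, rfl⟩
      have h2 := QuotientGroup.eq.1 h1
      have hmem : (ι x * ⟨a, hAM ha⟩ * (⟨a, hAM ha⟩ * ι x)⁻¹ : M).1 ∈ A := by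
        show x.1 * a * (a * x.1)⁻¹ ∈ A
        rw [mul_inv_rev, show x.1 * a * (x.1⁻¹ * a⁻¹) = (x.1 * a * x.1⁻¹) * a⁻¹ by group]
        exact mul_mem ((mem_normalizer_iff.1 x.2 a).1 ha) (inv_mem ha)
      have h3 : (⟨a, hAM ha⟩ * ι x)⁻¹ * (ι x * ⟨a, hAM ha⟩) ∈ O := h2
      have h4 : ι x * ⟨a, hAM ha⟩ * (⟨a, hAM ha⟩ * ι x)⁻¹ ∈ O := by
        have h5 := hOn.conj_mem _ h3 (⟨a, hAM ha⟩ * ι x)
        rwa [show ⟨a, hAM ha⟩ * ι x * ((⟨a, hAM ha⟩ * ι x)⁻¹ * (ι x * ⟨a, hAM ha⟩)) * (⟨a, hAM ha⟩ * ι x)⁻¹ =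
          ι x * ⟨a, hAM ha⟩ * (⟨a, hAM ha⟩ * ι x)⁻¹ by group] at h5
      obtain ⟨i, hi⟩ := F.isPGroup ⟨_, hmem⟩
      have h5 : ι x * ⟨a, hAM ha⟩ * (⟨a, hAM ha⟩ * ι x)⁻¹ = 1 := orderOf_eq_one_iff.1 (Nat.eq_one_of_dvd_coprimes
        (Nat.Coprime.pow_right i (Nat.Coprime.coprime_dvd_left (Subgroup.orderOf_dvd_natCard _ h4)
          (Cfsg.Lib.Components.coprime_card_pPrimeCore 2)))
        dvd_rfl (orderOf_dvd_of_pow_eq_one (Subtype.ext (by simpa using congrArg Subtype.val hi))))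
      exact (congrArg Subtype.val (mul_inv_eq_one.1 h5)).symm
    · rintro _ ⟨a, ha, rfl⟩
      show π a * π (ι x) = π (ι x) * π a
      rw [← map_mul, ← map_mul, show a * ι x = ι x * a from Subtype.ext (mem_centralizer_iff.1 h a.1 ha)]
  have hcard : Nat.card ψ.range = p := by
    rw [← hιs, ← Subgroup.index_ker, hker, Subgroup.index_ker, E.automizer.2]
  haveI : IsCyclic ψ.range := isCyclic_of_prime_card hcard
  let e : ψ.range ≃* Multiplicative (ZMod p) :=
    mulEquivOfCyclicCardEq (by rw [hcard, Nat.card_eq_fintype_card, Fintype.card_multiplicative, ZMod.card])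
  let ϕ : M →* Multiplicative (ZMod p) := e.toMonoidHom.comp ψ.rangeRestrict
  have hϕs : Function.Surjective ϕ := e.surjective.comp ψ.rangeRestrict_surjective
  -- the transfer is trivial
  have htr : ∀ g : G, MonoidHom.transfer ϕ g = 1 := by
    intro g
    rcases (inferInstance : (MonoidHom.transfer ϕ).ker.Normal).eq_bot_or_eq_top with hb | ht
    · exact absurd (Group.isSolvable_of_comm fun a b => (MonoidHom.ker_eq_bot_iff _).1 hb (by
        rw [map_mul, map_mul, mul_comm])) F.base.ns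
    · exact (MonoidHom.transfer ϕ).mem_ker.1 (ht.ge (mem_top g))
  obtain ⟨g0, hg0P, hg0⟩ : ∃ g ∈ (P0 : Subgroup M), ϕ g ≠ 1 := by
    by_contra hno
    push Not at hno
    have hbot : (P0 : Subgroup M).map ϕ = ⊥ := le_bot_iff.1 (by
      rintro _ ⟨x, hx, rfl⟩
      exact hno x hx)
    have h1 := (P0.mapSurjective hϕs).ne_bot_of_dvd_card (by
      rw [Nat.card_eq_fintype_card, Fintype.card_multiplicative, ZMod.card])
    exact h1 (by rw [Sylow.coe_mapSurjective, hbot])
  have hcomm : ∀ a b : M, ϕ (a * b * a⁻¹) = ϕ b := fun a b => by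
    rw [map_mul, map_mul, map_inv, mul_comm (ϕ a), mul_inv_cancel_right]
  have hterm : ∀ (k : ℕ) (h : G) (hmem : h⁻¹ * g0.1 ^ k * h ∈ M), ϕ ⟨h⁻¹ * g0.1 ^ k * h, hmem⟩ = ϕ g0 ^ k := by
    intro k h hmem
    set v : M := ⟨h⁻¹ * g0.1 ^ k * h, hmem⟩ with hv
    have hvp : IsPGroup p (zpowers v) := by
      obtain ⟨i, hi⟩ := P0.2 ⟨g0 ^ k, pow_mem hg0P k⟩
      have hi' : (g0.1 ^ k) ^ p ^ i = 1 := congrArg (fun x : (P0 : Subgroup M) => ((x : M) : G)) hi
      have h1 : v ^ p ^ i = 1 := by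
        refine Subtype.ext ?_
        show (h⁻¹ * g0.1 ^ k * h) ^ p ^ i = 1
        rw [show h⁻¹ * g0.1 ^ k * h = h⁻¹ * g0.1 ^ k * h⁻¹⁻¹ by group, conj_pow, hi']
        group
      obtain ⟨i', -, hi''⟩ := (Nat.dvd_prime_pow F.base.prime).1 (orderOf_dvd_of_pow_eq_one h1)
      exact IsPGroup.of_card (n := i') (by rw [Nat.card_zpowers, hi''])
    obtain ⟨R', hR'⟩ := hvp.exists_le_sylow
    obtain ⟨m', hm'⟩ := MulAction.exists_smul_eq M R' P0
    have h6 : m' * v * m'⁻¹ ∈ ((m' • R' : Sylow p M) : Subgroup M) :=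
      Subgroup.smul_mem_pointwise_smul (a := MulAut.conj m') _ _ (hR' (mem_zpowers _))
    rw [hm'] at h6
    obtain ⟨c, hc, hce⟩ := Cfsg.Lib.SolvStruct.exists_mem_normalizer_zj hp2 hqd P (A := {g0.1 ^ k})
      (Set.singleton_subset_iff.2 (by
        show g0.1 ^ k ∈ (P : Subgroup G)
        rw [hP]; exact ⟨g0 ^ k, pow_mem hg0P k, rfl⟩)) (g := m'.1 * h⁻¹) (by
        intro a ha
        rw [show a = g0.1 ^ k from ha, hP]
        refine ⟨_, h6, ?_⟩
        show m'.1 * (h⁻¹ * g0.1 ^ k * h) * m'.1⁻¹ = _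
        group)
    rw [hP, ← hXeq] at hc
    have hcM : c ∈ M := hKM hc
    have heq : (⟨c, hcM⟩ : M) * g0 ^ k * (⟨c, hcM⟩ : M)⁻¹ = m' * v * m'⁻¹ := by
      refine Subtype.ext ?_
      show c * g0.1 ^ k * c⁻¹ = m'.1 * (h⁻¹ * g0.1 ^ k * h) * m'.1⁻¹
      rw [hce _ rfl]
      group
    have := congrArg ϕ heq
    rw [hcomm, hcomm, map_pow] at this
    exact this.symm
  have hidx : ϕ g0 ^ M.index = 1 := by
    have h := htr g0.1
    letI := M.fintypeQuotientOfFiniteIndex
    haveI : Fintype (Quotient (MulAction.orbitRel (zpowers g0.1) (G ⧸ M))) := Fintype.ofFinite _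
    rw [MonoidHom.transfer_eq_prod_quotient_orbitRel_zpowers_quot] at h
    rw [index_eq_sum_minimalPeriod M g0.1, ← Finset.prod_pow_eq_pow_sum]
    rw [← h]
    exact Finset.prod_congr rfl fun q _ => (hterm _ _ _).symm
  have hpidx : ¬ p ∣ M.index := fun hd => P.not_dvd_index (hd.trans (index_dvd_of_le (by
    rw [hP]; exact map_subtype_le _)))
  refine hg0 (orderOf_eq_one_iff.1 (Nat.eq_one_of_dvd_coprimes
    ((F.base.prime.coprime_iff_not_dvd.2 hpidx)) ?_ (orderOf_dvd_of_pow_eq_one hidx)))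
  refine orderOf_dvd_of_pow_eq_one ?_
  have hcardp : Nat.card (Multiplicative (ZMod p)) = p := by
    rw [Nat.card_eq_fintype_card, Fintype.card_multiplicative, ZMod.card]
  have h := pow_card_eq_one' (x := ϕ g0)
  rwa [hcardp] at h

theorem eq_normalizer (E : Emb p G S A M) : M = normalizer (A : Set G) := by
  refine le_antisymm (fun x hx => ?_) E.norm_le
  haveI : (Cfsg.pPrimeCore 2 M).Normal := Cfsg.Lib.Components.pPrimeCore_normal' 2
  obtain ⟨o, ho, n, hn, he⟩ := mem_sup_of_normal_left.1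
    ((E.subgroupOf_frattini E.se.1 E.sylow_le).ge (mem_top (⟨x, hx⟩ : M)))
  rw [show x = (o : G) * n from (congrArg Subtype.val he).symm]
  refine mul_mem (centralizer_le_normalizer' (E.core_centralizes ⟨o, ho, rfl⟩)) ?_
  have h := le_normalizer_map M.subtype ⟨n, hn, rfl⟩
  rwa [map_subgroupOf_eq_of_le (E.frame.le.trans E.sylow_le)] at h
where
  centralizer_le_normalizer' {o : G} (ho : o ∈ centralizer (A : Set G)) : o ∈ normalizer (A : Set G) :=
    Cfsg.Lib.Thompson.centralizer_le_normalizer A ho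

end Emb

end Cfsg.Lib.PPrimeNil
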